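import Mathlib.AlgebraicGeometry.Gluing
import Mathlib.CategoryTheory.Limits.Shapes.Pullback.HasPullback
import Mathlib.AlgebraicGeometry.Morphisms.ClosedImmersion
import Mathlib.AlgebraicGeometry.PullbackCarrier
import Mathlib.AlgebraicGeometry.Morphisms.Separated
import Mathlib.AlgebraicGeometry.Morphisms.Immersion

/-!
# Gluing two schemes along an open subscheme
-/

universe u

open CategoryTheory Limits AlgebraicGeometry

namespace Groth.Agent.LocImm12

set_option backward.isDefEq.respectTransparency.types false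

variable {W Y₁ Y₂ : Scheme.{u}}

/-- The gluing of two schemes along a common open subscheme. -/
theorem exists_glue (a : W ⟶ Y₁) (b : W ⟶ Y₂) [IsOpenImmersion a] [IsOpenImmersion b] :
    ∃ (Y : Scheme.{u}) (j₁ : Y₁ ⟶ Y) (j₂ : Y₂ ⟶ Y), IsOpenImmersion j₁ ∧ IsOpenImmersion j₂ ∧
      IsPushout a b j₁ j₂ ∧ Set.range j₁ ∪ Set.range j₂ = Set.univ ∧
      (∀ y₁ y₂, j₁ y₁ = j₂ y₂ → ∃ w, a w = y₁ ∧ b w = y₂) := by
  let F := span a b
  have : ∀ {i j : WalkingSpan} (f : i ⟶ j), IsOpenImmersion (F.map f) := by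
    rintro i j (_ | ⟨_ | _⟩)
    · exact (F.map_id i).symm ▸ inferInstance
    · exact ‹IsOpenImmersion a›
    · exact ‹IsOpenImmersion b›
  have h1 : (F ⋙ Scheme.forget).IsLocallyDirected := inferInstance
  have h2 : Quiver.IsThin WalkingSpan := inferInstance
  have hι : ∀ i, IsOpenImmersion (colimit.ι F i) := fun i =>
    (Scheme.IsLocallyDirected.openCover F).map_prop i
  refine ⟨colimit F, colimit.ι F WalkingSpan.left, colimit.ι F WalkingSpan.right,
    hι _, hι _,
    IsPushout.of_isColimit' ⟨?_⟩ ?_, ?_, ?_⟩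
  · exact (colimit.w F WalkingSpan.Hom.fst).trans (colimit.w F WalkingSpan.Hom.snd).symm
  · exact IsColimit.ofIsoColimit (colimit.isColimit F) (PushoutCocone.ext (Iso.refl _)
      (Category.comp_id _) (Category.comp_id _))
  · refine Set.eq_univ_of_forall fun y => ?_
    obtain ⟨i, yi, rfl⟩ := Scheme.IsLocallyDirected.ι_jointly_surjective F y
    rcases i with _ | _ | _
    · refine Or.inl ⟨a yi, ?_⟩
      rw [← Scheme.Hom.comp_apply]
      exact congrArg (fun m : W ⟶ colimit F => m yi) (colimit.w F WalkingSpan.Hom.fst)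
    · exact Or.inl ⟨yi, rfl⟩
    · exact Or.inr ⟨yi, rfl⟩
  · intro y₁ y₂ h
    obtain ⟨k, fi, fj, w, h₁, h₂⟩ := (Scheme.IsLocallyDirected.ι_eq_ι_iff F).1 h
    rcases k with _ | _ | _
    · rcases fi with _ | _
      rcases fj with _ | _
      exact ⟨w, h₁, h₂⟩
    · exact nomatch fj
    · exact nomatch fi

/-- Separatedness of a scheme glued from two separated pieces. -/
theorem isSeparated_of_glue {Y S : Scheme.{u}} (p : Y ⟶ S) {a : W ⟶ Y₁} {b : W ⟶ Y₂}
    (j₁ : Y₁ ⟶ Y) (j₂ : Y₂ ⟶ Y) [IsOpenImmersion j₁] [IsOpenImmersion j₂]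
    (hY : Set.range j₁ ∪ Set.range j₂ = Set.univ) (hab : a ≫ j₁ = b ≫ j₂)
    [IsSeparated (j₁ ≫ p)] [IsSeparated (j₂ ≫ p)]
    (hW : IsClosed (Set.range (pullback.lift a b
      (show a ≫ (j₁ ≫ p) = b ≫ (j₂ ≫ p) by rw [reassoc_of% hab]))))
    (hint : ∀ y₁ y₂, j₁ y₁ = j₂ y₂ → ∃ w, a w = y₁ ∧ b w = y₂) : IsSeparated p := by
  refine ⟨?_⟩
  rw [IsClosedImmersion.iff_isPreimmersion]
  refine ⟨inferInstance, ?_⟩
  let P := pullback p p
  let d := pullback.diagonal p
  let e : (i j : Bool) → P.Opens := fun i j =>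
    pullback.fst p p ⁻¹ᵁ (bif i then j₁.opensRange else j₂.opensRange) ⊓
      pullback.snd p p ⁻¹ᵁ (bif j then j₁.opensRange else j₂.opensRange)
  have hcov : ∀ z : P, ∃ i j, z ∈ e i j := fun z => by
    have h1 : pullback.fst p p z ∈ Set.range j₁ ∪ Set.range j₂ := hY ▸ trivial
    have h2 : pullback.snd p p z ∈ Set.range j₁ ∪ Set.range j₂ := hY ▸ trivial
    rcases h1 with h1 | h1 <;> rcases h2 with h2 | h2
    exacts [⟨true, true, h1, h2⟩, ⟨true, false, h1, h2⟩, ⟨false, true, h1, h2⟩,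
      ⟨false, false, h1, h2⟩]
  have hd1 : ∀ y, pullback.fst p p (d y) = y := fun y => by
    rw [← Scheme.Hom.comp_apply, pullback.diagonal_fst]; rfl
  have hd2 : ∀ y, pullback.snd p p (d y) = y := fun y => by
    rw [← Scheme.Hom.comp_apply, pullback.diagonal_snd]; rfl
  refine isClosed_of_closure_subset fun z hz => ?_
  -- a closed piece on each member of the cover
  have key : ∀ {A B V : Scheme.{u}} (i : A ⟶ Y) (k : B ⟶ Y) [IsOpenImmersion i] [IsOpenImmersion k]
      (c : V ⟶ A) (c' : V ⟶ B) (hc : c ≫ i = c' ≫ k),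
      IsClosed (Set.range (pullback.lift c c'
        (show c ≫ (i ≫ p) = c' ≫ (k ≫ p) by rw [reassoc_of% hc]))) →
      (∀ x y, i x = k y → ∃ w, c w = x ∧ c' w = y) →
      pullback.fst p p z ∈ Set.range i → pullback.snd p p z ∈ Set.range k → z ∈ Set.range d := by
    intro A B V i k _ _ c c' hc hcl hint hz1 hz2
    let m : pullback (i ≫ p) (k ≫ p) ⟶ P :=
      pullback.map (i ≫ p) (k ≫ p) p p i k (𝟙 S) (by simp) (by simp)
    have hm1 : m ≫ pullback.fst p p = pullback.fst _ _ ≫ i := pullback.lift_fst ..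
    have hm2 : m ≫ pullback.snd p p = pullback.snd _ _ ≫ k := pullback.lift_snd ..
    have hm : Set.range m = pullback.fst p p ⁻¹' Set.range i ∩ pullback.snd p p ⁻¹' Set.range k :=
      Scheme.Pullback.range_map ..
    let g := pullback.lift c c' (show c ≫ (i ≫ p) = c' ≫ (k ≫ p) by rw [reassoc_of% hc])
    have hg : g ≫ m = (c ≫ i) ≫ d := by
      apply pullback.hom_ext
      · rw [Category.assoc, hm1, ← Category.assoc, pullback.lift_fst, Category.assoc (c ≫ i),
          pullback.diagonal_fst, Category.comp_id]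
      · rw [Category.assoc, hm2, ← Category.assoc, pullback.lift_snd, Category.assoc (c ≫ i),
          pullback.diagonal_snd, Category.comp_id, hc]
    obtain ⟨z', rfl⟩ : z ∈ Set.range m := hm ▸ ⟨hz1, hz2⟩
    have hsub : Set.range d ∩ Set.range m ⊆ m '' Set.range g := by
      rintro _ ⟨⟨y, rfl⟩, hy⟩
      rw [hm] at hy
      obtain ⟨⟨x, hx⟩, ⟨x', hx'⟩⟩ := hy
      rw [hd1] at hx
      rw [hd2] at hx'
      obtain ⟨w, hw, -⟩ := hint x x' (hx.trans hx'.symm)
      refine ⟨g w, ⟨w, rfl⟩, ?_⟩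
      rw [← Scheme.Hom.comp_apply, hg, Scheme.Hom.comp_apply, Scheme.Hom.comp_apply, hw, hx]
    have hmem : m z' ∈ closure (m '' Set.range g) := by
      refine closure_mono hsub ?_
      rw [Set.inter_comm]
      exact m.isOpenEmbedding.isOpen_range.inter_closure ⟨⟨z', rfl⟩, hz⟩
    have : z' ∈ closure (Set.range g) := by
      rw [m.isEmbedding.closure_eq_preimage_closure_image]
      exact hmem
    rw [hcl.closure_eq] at this
    obtain ⟨w, rfl⟩ := this
    exact ⟨(c ≫ i) w, by rw [← Scheme.Hom.comp_apply, ← hg]; rfl⟩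
  obtain ⟨i, j, hi, hj⟩ := hcov z
  have hdiag : ∀ {A : Scheme.{u}} (i : A ⟶ Y) [IsSeparated (i ≫ p)],
      IsClosed (Set.range (pullback.lift (𝟙 A) (𝟙 A)
        (show 𝟙 A ≫ (i ≫ p) = 𝟙 A ≫ (i ≫ p) from rfl))) := fun i _ =>
    (pullback.diagonal (i ≫ p)).isClosedEmbedding.isClosed_range
  cases i <;> cases j
  · exact key j₂ j₂ (𝟙 _) (𝟙 _) rfl (hdiag j₂)
      (fun x y h => ⟨x, rfl, j₂.isOpenEmbedding.injective h⟩) hi hj
  · refine key j₂ j₁ b a hab.symm ?_ (fun x y h => by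
      obtain ⟨w, h1, h2⟩ := hint y x h.symm; exact ⟨w, h2, h1⟩) hi hj
    have hsw : pullback.lift b a (show b ≫ (j₂ ≫ p) = a ≫ (j₁ ≫ p) by rw [reassoc_of% hab]) =
        pullback.lift a b (show a ≫ (j₁ ≫ p) = b ≫ (j₂ ≫ p) by rw [reassoc_of% hab]) ≫
          (pullbackSymmetry (j₁ ≫ p) (j₂ ≫ p)).hom := by
      apply pullback.hom_ext
      · rw [Category.assoc, pullbackSymmetry_hom_comp_fst, pullback.lift_fst, pullback.lift_snd]
      · rw [Category.assoc, pullbackSymmetry_hom_comp_snd, pullback.lift_fst, pullback.lift_snd]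
    rw [hsw, Scheme.Hom.comp_base, TopCat.coe_comp, Set.range_comp]
    exact (pullbackSymmetry (j₁ ≫ p) (j₂ ≫ p)).hom.isClosedEmbedding.isClosedMap _ hW
  · exact key j₁ j₂ a b hab hW hint hi hj
  · exact key j₁ j₁ (𝟙 _) (𝟙 _) rfl (hdiag j₁)
      (fun x y h => ⟨x, rfl, j₁.isOpenEmbedding.injective h⟩) hi hj

end Groth.Agent.LocImm12
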