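import Mathlib.AlgebraicGeometry.IdealSheaf.Subscheme
import Mathlib.AlgebraicGeometry.Noetherian
import Mathlib.AlgebraicGeometry.Morphisms.FiniteType
import Mathlib.AlgebraicGeometry.Morphisms.QuasiCompact

/-!
# Noetherian schemes: pullbacks of finite type morphisms and scheme-theoretic images
-/

universe u

open CategoryTheory Limits AlgebraicGeometry

namespace Groth.Agent.LocImm12

set_option backward.isDefEq.respectTransparency.types false

variable {X Y Z : Scheme.{u}}

theorem isNoetherian_of_finiteType [IsNoetherian Y] (f : X ⟶ Y) [LocallyOfFiniteType f]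
    [QuasiCompact f] : IsNoetherian X :=
  { toIsLocallyNoetherian := LocallyOfFiniteType.isLocallyNoetherian f
    toCompactSpace := QuasiCompact.compactSpace_of_compactSpace f }

theorem isNoetherian_pullback [IsNoetherian X] [IsNoetherian Y] (f : X ⟶ Z) (g : Y ⟶ Z)
    [LocallyOfFiniteType g] [QuasiCompact g] : IsNoetherian (pullback f g) :=
  isNoetherian_of_finiteType (pullback.fst f g)

theorem toImage_app_injective_of_opens (f : X ⟶ Y) [QuasiCompact f] (U : f.image.Opens) :
    Function.Injective (f.toImage.app U).hom :=
  (TopCat.Presheaf.app_injective_iff_stalkFunctor_map_injective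
    (F := f.image.sheaf) f.toImage.c).1
    (fun x => f.stalkFunctor_toImage_injective x) U

end Groth.Agent.LocImm12
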