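import Groth.Agent.Lib.LocImm12.Basic
import Mathlib.AlgebraicGeometry.Morphisms.Separated

/-!
# Localizing morphisms: separatedness and injectivity
-/

universe u

open CategoryTheory Limits AlgebraicGeometry TopologicalSpace

namespace Groth.Agent.LocImm12

set_option backward.isDefEq.respectTransparency.types false

variable {X Y Z : Scheme.{u}}

/-- Two morphisms to a separated scheme agree as functions on the specializations of a point at
which they agree. -/
theorem eq_apply_of_specializes {T P : Scheme.{u}} (q₁ q₂ : T ⟶ X) (i : X ⟶ Y) [IsSeparated i]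
    (h : q₁ ≫ i = q₂ ≫ i) (g : P ⟶ T) (hg : g ≫ q₁ = g ≫ q₂) (s : P) {c : T} (hc : g s ⤳ c) :
    q₁ c = q₂ c := by
  let X' : Over Y := Over.mk i
  let T' : Over Y := Over.mk (q₁ ≫ i)
  let P' : Over Y := Over.mk (g ≫ q₁ ≫ i)
  let f₁ : T' ⟶ X' := Over.homMk q₁
  let f₂ : T' ⟶ X' := Over.homMk q₂ (by simp [T', X', h])
  let g' : P' ⟶ T' := Over.homMk g
  have : IsSeparated X'.hom := ‹_›
  have hlift : g' ≫ f₁ = g' ≫ f₂ := by ext1; exact hg
  have hmem : g s ∈ Set.range (equalizer.ι f₁ f₂).left :=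
    ⟨(equalizer.lift g' hlift).left s, by
      rw [← Scheme.Hom.comp_apply, ← Over.comp_left, equalizer.lift_ι]; rfl⟩
  obtain ⟨e, he⟩ := hc.mem_closed (equalizer.ι f₁ f₂).left.isClosedEmbedding.isClosed_range hmem
  have h2 := congrArg (fun m : equalizer f₁ f₂ ⟶ X' => m.left e) (equalizer.condition f₁ f₂)
  simp only [Over.comp_left, Scheme.Hom.comp_apply, he] at h2
  exact h2

variable {f : X ⟶ Y} (hf : LocImm.IsLocalizing f)
include hf

theorem exists_open_isPreimmersion (x : X) :
    ∃ V : X.Opens, x ∈ V ∧ IsPreimmersion (V.ι ≫ f) := by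
  obtain ⟨U, V, hx, e, hφ⟩ := hf x
  refine ⟨V.1, hx, ?_⟩
  have := isPreimmersion_SpecMap hφ
  have h1 : IsPreimmersion (V.2.fromSpec ≫ f) :=
    IsAffineOpen.SpecMap_appLE_fromSpec f U.2 V.2 e ▸ inferInstance
  rwa [← V.2.isoSpec_inv_ι, Category.assoc,
    MorphismProperty.cancel_left_of_respectsIso @IsPreimmersion] at h1

theorem eq_of_specializes {x z z' : X} (hz : z ⤳ x) (hz' : z' ⤳ x) (h : f z = f z') : z = z' := by
  obtain ⟨V, hx, hV⟩ := exists_open_isPreimmersion hf x
  exact congrArg Subtype.val ((V.ι ≫ f).isEmbedding.injective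
    (a₁ := ⟨z, hz.mem_open V.isOpen hx⟩) (a₂ := ⟨z', hz'.mem_open V.isOpen hx⟩) h)

/-- A separated localizing morphism which is injective on maximal points is injective. -/
theorem injective_of_isSeparated [IsSeparated f]
    (hinj : Set.InjOn f {x : X | ∀ x' : X, x' ⤳ x → x' = x}) : Function.Injective f := by
  have := flat_of_isLocalizing hf
  have := surjectiveOnStalks_of_isLocalizing hf
  intro x₁ x₂ hx
  have hex : ∀ (x : X) (y : Y), f x = y → ∃ q : Spec (Y.presheaf.stalk y) ⟶ X,
      q ≫ f = Y.fromSpecStalk y ∧ q (IsLocalRing.closedPoint (Y.presheaf.stalk y)) = x := by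
    rintro x y rfl
    have := isIso_stalkMap f x
    refine ⟨Spec.map (inv (f.stalkMap x)) ≫ X.fromSpecStalk x, ?_, ?_⟩
    · rw [Category.assoc, ← Scheme.SpecMap_stalkMap_fromSpecStalk, ← Spec.map_comp_assoc,
        IsIso.hom_inv_id, Spec.map_id, Category.id_comp]
    · rw [Scheme.Hom.comp_apply]
      exact (congrArg (X.fromSpecStalk x)
        (IsLocalRing.comap_closedPoint (inv (f.stalkMap x)).hom)).trans
          Scheme.fromSpecStalk_closedPoint
  obtain ⟨q₁, hq₁, hq₁c⟩ := hex x₁ (f x₂) hx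
  obtain ⟨q₂, hq₂, hq₂c⟩ := hex x₂ (f x₂) rfl
  -- a maximal generalization of `x₁`
  let η := (isIrreducible_irreducibleComponent (x := x₁)).genericPoint
  have hη : IsGenericPoint η (irreducibleComponent x₁) :=
    isIrreducible_irreducibleComponent.isGenericPoint_genericPoint isClosed_irreducibleComponent
  have hη1 : η ⤳ x₁ := hη.specializes mem_irreducibleComponent
  have hηmax : ∀ z, z ⤳ η → z = η := fun z hz => by
    have hirr : IsIrreducible (closure ({z} : Set X)) := isIrreducible_singleton.closure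
    have hle : irreducibleComponent x₁ ⊆ closure {z} := by
      rw [← hη.def]
      exact closure_minimal (Set.singleton_subset_iff.2 hz.mem_closure) isClosed_closure
    exact IsGenericPoint.eq ((irreducibleComponent_mem_irreducibleComponents x₁).eq_of_ge
      hirr hle ▸ isGenericPoint_closure) hη
  obtain ⟨η₂, hη2, hfη2⟩ := Flat.generalizingMap f (show f η ⤳ f x₂ from hx ▸ hη1.map f.continuous)
  have hη₂max : ∀ z, z ⤳ η₂ → z = η₂ := fun z hz => by
    obtain ⟨z', hz', hfz'⟩ := Flat.generalizingMap f (show f z ⤳ f η from hfη2 ▸ hz.map f.continuous)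
    exact eq_of_specializes hf (hz.trans hη2) hη2
      (by rw [← hfz', hηmax z' hz', hfη2])
  obtain rfl : η₂ = η := hinj hη₂max hηmax hfη2
  obtain ⟨p, hp⟩ : η ∈ Set.range q₁ := by
    have : f η ∈ Set.range (Y.fromSpecStalk (f x₂)) := by
      rw [Scheme.range_fromSpecStalk]; exact hx ▸ hη1.map f.continuous
    obtain ⟨p, hp⟩ := this
    refine ⟨p, eq_of_specializes hf (((IsLocalRing.specializes_closedPoint p).map q₁.continuous).trans (specializes_of_eq hq₁c))
      hη1 ?_⟩
    rw [← hp, ← hq₁, Scheme.Hom.comp_apply]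
  have hp₂ : q₂ p = η := by
    refine eq_of_specializes hf (((IsLocalRing.specializes_closedPoint p).map q₂.continuous).trans (specializes_of_eq hq₂c))
      hη2 ?_
    rw [← hp, ← Scheme.Hom.comp_apply, ← Scheme.Hom.comp_apply, hq₁, hq₂]
  obtain ⟨V, hV, hVf⟩ := exists_open_isPreimmersion hf η
  let g := (Spec (Y.presheaf.stalk (f x₂))).fromSpecResidueField p
  have hr : ∀ q : Spec (Y.presheaf.stalk (f x₂)) ⟶ X, q p = η →
      Set.range (g ≫ q) ⊆ Set.range V.ι := by
    rintro q hq _ ⟨s, rfl⟩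
    rw [Scheme.Opens.range_ι, Scheme.Hom.comp_apply, Scheme.fromSpecResidueField_apply, hq]
    exact hV
  have hg : g ≫ q₁ = g ≫ q₂ := by
    rw [← IsOpenImmersion.lift_fac V.ι _ (hr q₁ hp), ← IsOpenImmersion.lift_fac V.ι _ (hr q₂ hp₂)]
    congr 1
    rw [← cancel_mono (V.ι ≫ f), ← Category.assoc, ← Category.assoc, IsOpenImmersion.lift_fac,
      IsOpenImmersion.lift_fac, Category.assoc, Category.assoc, hq₁, hq₂]
  refine hq₁c.symm.trans (Eq.trans ?_ hq₂c)
  refine eq_apply_of_specializes q₁ q₂ f (hq₁.trans hq₂.symm) g hg (IsLocalRing.closedPoint _) ?_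
  rw [Scheme.fromSpecResidueField_apply]
  exact IsLocalRing.specializes_closedPoint p

end Groth.Agent.LocImm12
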