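import Groth.Agent.Lib.LocImm12.Open
import Mathlib.Topology.Sober

/-!
# Localizing immersions on a neighbourhood of a set
-/

universe u

open CategoryTheory Limits AlgebraicGeometry TopologicalSpace

namespace Groth.Agent.LocImm12

set_option backward.isDefEq.respectTransparency.types false

variable {X Y Z : Scheme.{u}}

theorem isLocalizing_of_forall {f : X ⟶ Y}
    (h : ∀ x : X, ∃ O : X.Opens, x ∈ O ∧ LocImm.IsLocalizing (O.ι ≫ f)) :
    LocImm.IsLocalizing f := by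
  intro x
  obtain ⟨O, hx, hO⟩ := h x
  obtain ⟨U, V, hxV, e, hl⟩ := hO ⟨x, hx⟩
  have hVU : O.ι ''ᵁ V.1 ≤ f ⁻¹ᵁ U.1 := by
    rintro _ ⟨v, hv, rfl⟩; exact e hv
  refine ⟨U, ⟨_, V.2.image_of_isOpenImmersion O.ι⟩, ⟨⟨x, hx⟩, hxV, rfl⟩, hVU, ?_⟩
  have hiso : IsIso (O.ι.appLE (O.ι ''ᵁ V.1) V.1 (O.ι.preimage_image_eq V.1).ge) := by
    rw [← Scheme.Hom.appIso_hom']; infer_instance
  have heq : f.appLE U.1 (O.ι ''ᵁ V.1) hVU =
      (O.ι ≫ f).appLE U.1 V.1 e ≫ inv (O.ι.appLE (O.ι ''ᵁ V.1) V.1 (O.ι.preimage_image_eq V.1).ge) := by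
    rw [IsIso.eq_comp_inv, Scheme.Hom.appLE_comp_appLE]
  rw [heq, CommRingCat.hom_comp]
  exact isLocHom_comp hl (isLocHom_of_bijective (ConcreteCategory.bijective_of_isIso _))

/-- A closed set missing two sets stable under generalization is separated from them by opens. -/
theorem exists_opens_disjoint {P Y₁ Y₂ : Type*} [TopologicalSpace P] [NoetherianSpace P]
    [QuasiSober P] [TopologicalSpace Y₁] [TopologicalSpace Y₂] {p₁ : P → Y₁} {p₂ : P → Y₂}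
    (h₁ : Continuous p₁) (h₂ : Continuous p₂) {A₁ : Set Y₁} {A₂ : Set Y₂}
    (hA₁ : StableUnderGeneralization A₁) (hA₂ : StableUnderGeneralization A₂) {B : Set P}
    (hB : IsClosed B) (h : ∀ b ∈ B, p₁ b ∈ A₁ → p₂ b ∈ A₂ → False) :
    ∃ (O₁ : Opens Y₁) (O₂ : Opens Y₂), A₁ ⊆ O₁ ∧ A₂ ⊆ O₂ ∧
      ∀ b ∈ B, p₁ b ∈ O₁ → p₂ b ∈ O₂ → False := by
  obtain ⟨S, hS, hSc, hSi, hBS⟩ := NoetherianSpace.exists_finite_set_isClosed_irreducible hB
  have key : ∀ Z : S, ∃ (O₁ : Opens Y₁) (O₂ : Opens Y₂), A₁ ⊆ O₁ ∧ A₂ ⊆ O₂ ∧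
      ∀ b ∈ (Z : Set P), p₁ b ∈ O₁ → p₂ b ∈ O₂ → False := by
    rintro ⟨Z, hZ⟩
    obtain ⟨b, hb⟩ := QuasiSober.sober (hSi Z hZ) (hSc Z hZ)
    by_cases hb1 : p₁ b ∈ A₁
    · have hb2 : p₂ b ∉ A₂ := h b (hBS ▸ ⟨Z, hZ, hb.mem⟩) hb1
      refine ⟨⊤, ⟨(closure {p₂ b})ᶜ, isClosed_closure.isOpen_compl⟩, Set.subset_univ _,
        fun a ha hc => hb2 (hA₂ (specializes_iff_mem_closure.2 hc) ha), fun z hz _ hz2 => hz2 ?_⟩
      exact specializes_iff_mem_closure.1 ((hb.specializes hz).map h₂)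
    · refine ⟨⟨(closure {p₁ b})ᶜ, isClosed_closure.isOpen_compl⟩, ⊤,
        fun a ha hc => hb1 (hA₁ (specializes_iff_mem_closure.2 hc) ha), Set.subset_univ _,
        fun z hz hz1 _ => hz1 ?_⟩
      exact specializes_iff_mem_closure.1 ((hb.specializes hz).map h₁)
  choose O₁ O₂ hO₁ hO₂ hO using key
  have := hS.to_subtype
  refine ⟨⟨⋂ Z : S, O₁ Z, isOpen_iInter_of_finite fun Z => (O₁ Z).2⟩,
    ⟨⋂ Z : S, O₂ Z, isOpen_iInter_of_finite fun Z => (O₂ Z).2⟩,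
    Set.subset_iInter hO₁, Set.subset_iInter hO₂, fun b hb hb1 hb2 => ?_⟩
  rw [hBS] at hb
  obtain ⟨Z, hZ, hbZ⟩ := hb
  exact hO ⟨Z, hZ⟩ b hbZ (Set.mem_iInter.1 hb1 ⟨Z, hZ⟩) (Set.mem_iInter.1 hb2 ⟨Z, hZ⟩)

/-- A morphism essentially of finite type which is injective and induces isomorphisms of stalks
on a set stable under generalization is a localizing immersion near this set. -/
theorem exists_open_isLocImmersion_of_injOn [IsNoetherian X] [IsLocallyNoetherian Y] (f : X ⟶ Y)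
    [EssFT.LocallyEssFiniteType f] (A : Set X) (hA : StableUnderGeneralization A)
    (hinj : Set.InjOn f A) (hiso : ∀ a ∈ A, IsIso (f.stalkMap a)) :
    ∃ U : X.Opens, A ⊆ U ∧ LocImm.IsLocImmersion (U.ι ≫ f) := by
  have h := fun a : A => haveI := hiso a a.2; exists_open_isLocImmersion f (a : X)
  choose V haV hV using h
  obtain ⟨t, ht⟩ := (NoetherianSpace.isCompact A).elim_finite_subcover (fun a => (V a : Set X))
    (fun a => (V a).isOpen) fun a ha => Set.mem_iUnion.2 ⟨⟨a, ha⟩, haV _⟩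
  have hN : ∀ a, NoetherianSpace (V a).toScheme := fun a =>
    (V a).ι.isEmbedding.isInducing.noetherianSpace
  have hN' : ∀ a, IsNoetherian (V a).toScheme := fun a =>
    { toIsLocallyNoetherian := isLocallyNoetherian_of_isOpenImmersion (V a).ι
      toCompactSpace := inferInstance }
  have : ∀ a, IsPreimmersion ((V a).ι ≫ f) := fun a => isPreimmersion_of_isLocImmersion (hV a)
  have key : ∀ i j : A, ∃ O : X.Opens, A ⊆ O ∧ ∀ y₁ ∈ O, ∀ y₂ ∈ O, y₁ ∈ V i → y₂ ∈ V j →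
      f y₁ = f y₂ → y₁ = y₂ := by
    intro i j
    let P := pullback ((V i).ι ≫ f) ((V j).ι ≫ f)
    have : NoetherianSpace P :=
      (pullback.snd ((V i).ι ≫ f) ((V j).ι ≫ f)).isEmbedding.isInducing.noetherianSpace
    let p₁ : P ⟶ X := pullback.fst _ _ ≫ (V i).ι
    let p₂ : P ⟶ X := pullback.snd _ _ ≫ (V j).ι
    have heq : ∀ z, f (p₁ z) = f (p₂ z) := fun z => by
      simp only [p₁, p₂, ← Scheme.Hom.comp_apply, Category.assoc, pullback.condition]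
    have hinjV : ∀ a, ∀ y₁ ∈ V a, ∀ y₂ ∈ V a, f y₁ = f y₂ → y₁ = y₂ := fun a y₁ h₁ y₂ h₂ e =>
      congrArg Subtype.val ((hV a).2 (a₁ := ⟨y₁, h₁⟩) (a₂ := ⟨y₂, h₂⟩) e)
    obtain ⟨O₁, O₂, hO₁, hO₂, hO⟩ := exists_opens_disjoint p₁.continuous p₂.continuous hA hA
      ((V j).isOpen.preimage p₁.continuous).isClosed_compl (fun z hz h1 h2 => hz (by
        show p₁ z ∈ V j
        rw [hinj h1 h2 (heq z)]
        exact (pullback.snd ((V i).ι ≫ f) ((V j).ι ≫ f) z).2))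
    refine ⟨⟨O₁ ∩ O₂, O₁.2.inter O₂.2⟩, fun a ha => ⟨hO₁ ha, hO₂ ha⟩,
      fun y₁ h₁ y₂ h₂ hy₁ hy₂ e => ?_⟩
    obtain ⟨z, hz₁, hz₂⟩ := Scheme.Pullback.exists_preimage_pullback (f := (V i).ι ≫ f)
      (g := (V j).ι ≫ f) ⟨y₁, hy₁⟩ ⟨y₂, hy₂⟩ e
    have e1 : p₁ z = y₁ := congrArg Subtype.val hz₁
    have e2 : p₂ z = y₂ := congrArg Subtype.val hz₂
    by_cases hj : y₁ ∈ V j
    · exact hinjV j y₁ hj y₂ hy₂ e
    · exact (hO z (fun h' => hj (e1 ▸ h')) (e1 ▸ h₁.1) (e2 ▸ h₂.2)).elim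
  choose O hAO hO using key
  let U : X.Opens := ⟨(⋃ i ∈ t, (V i : Set X)) ∩ ⋂ i ∈ t, ⋂ j ∈ t, (O i j : Set X),
    (isOpen_biUnion fun i _ => (V i).isOpen).inter (isOpen_biInter_finset fun i _ =>
      isOpen_biInter_finset fun j _ => (O i j).isOpen)⟩
  refine ⟨U, fun a ha => ⟨ht ha, Set.mem_iInter₂.2 fun i _ => Set.mem_iInter₂.2 fun j _ =>
    hAO i j ha⟩, isLocalizing_of_forall fun x => ?_, ?_⟩
  · obtain ⟨i, -, hxi⟩ := Set.mem_iUnion₂.1 x.2.1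
    refine ⟨U.ι ⁻¹ᵁ V i, hxi, ?_⟩
    rw [← Category.assoc, ← morphismRestrict_ι, Category.assoc]
    exact isLocalizing_comp (isLocalizing_of_isOpenImmersion _) (hV i).1
  · rintro ⟨y₁, h₁⟩ ⟨y₂, h₂⟩ e
    obtain ⟨i, hi, hy₁⟩ := Set.mem_iUnion₂.1 h₁.1
    obtain ⟨j, hj, hy₂⟩ := Set.mem_iUnion₂.1 h₂.1
    exact Subtype.ext (hO i j y₁ (Set.mem_iInter₂.1 (Set.mem_iInter₂.1 h₁.2 i hi) j hj)
      y₂ (Set.mem_iInter₂.1 (Set.mem_iInter₂.1 h₂.2 i hi) j hj) hy₁ hy₂ e)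

theorem locallyEssFiniteType_of_locallyOfFiniteType (f : X ⟶ Y) [LocallyOfFiniteType f] :
    EssFT.LocallyEssFiniteType f := by
  rw [EssFT.locallyEssFiniteType_iff]
  intro x
  obtain ⟨U, hU, hxU, -⟩ := exists_isAffineOpen_mem_and_subset (x := f x) (U := ⊤) trivial
  obtain ⟨V, hV, hxV, hVU⟩ := exists_isAffineOpen_mem_and_subset (x := x) (U := f ⁻¹ᵁ U) hxU
  exact ⟨⟨U, hU⟩, ⟨V, hV⟩, hxV, hVU, (f.finiteType_appLE hU hV hVU).essFiniteType⟩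

theorem isIso_stalkMap_of_comp {W : Scheme.{u}} {k : W ⟶ X} {f : X ⟶ Y} (w : W)
    [IsIso (k.stalkMap w)] (h : IsIso ((k ≫ f).stalkMap w)) : IsIso (f.stalkMap (k w)) := by
  rw [Scheme.Hom.stalkMap_comp] at h
  exact @IsIso.of_isIso_comp_right _ _ _ _ _ (f.stalkMap (k w)) (k.stalkMap w) ‹_› h

/-- A morphism compatible with two localizing immersions is a localizing immersion near the
image. -/
theorem exists_open_isLocImmersion_of_comp {W : Scheme.{u}} [IsNoetherian W] [IsNoetherian X]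
    [IsLocallyNoetherian Y] {k : W ⟶ X} (hk : LocImm.IsLocImmersion k) (f : X ⟶ Y)
    [EssFT.LocallyEssFiniteType f] (hkf : LocImm.IsLocImmersion (k ≫ f)) :
    ∃ U : X.Opens, Set.range k ⊆ U ∧ LocImm.IsLocImmersion (U.ι ≫ f) := by
  have := flat_of_isLocalizing hk.1
  have := surjectiveOnStalks_of_isLocalizing hk.1
  have := flat_of_isLocalizing hkf.1
  have := surjectiveOnStalks_of_isLocalizing hkf.1
  refine exists_open_isLocImmersion_of_injOn f _ (stableUnderGeneralization_range k) ?_ ?_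
  · rintro _ ⟨a, rfl⟩ _ ⟨b, rfl⟩ e
    rw [hkf.2 (show f (k a) = f (k b) from e)]
  · rintro _ ⟨a, rfl⟩
    have := isIso_stalkMap k a
    exact isIso_stalkMap_of_comp a (isIso_stalkMap (k ≫ f) a)

end Groth.Agent.LocImm12
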