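import Groth.Agent.Lib.LocImm12.Basic

/-!
# Localizing ring maps
-/

universe u

open CategoryTheory Limits AlgebraicGeometry TopologicalSpace

namespace Groth.Agent.LocImm12

section Ring

variable {A B C : Type u} [CommRing A] [CommRing B] [CommRing C]

theorem isLocHom_iff (φ : A →+* B) :
    LocImm.IsLocHom φ ↔ (∀ b, ∃ a s, IsUnit (φ s) ∧ b * φ s = φ a) ∧
      ∀ a, φ a = 0 → ∃ s, IsUnit (φ s) ∧ s * a = 0 := by
  let : Algebra A B := φ.toAlgebra
  constructor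
  · intro h
    obtain ⟨S, hS⟩ := h
    refine ⟨fun b => ?_, fun a ha => ?_⟩
    · obtain ⟨⟨a, s⟩, h⟩ := IsLocalization.surj S b
      exact ⟨a, s, IsLocalization.map_units B s, h⟩
    · obtain ⟨s, hs⟩ := (IsLocalization.map_eq_zero_iff S B a).1 ha
      exact ⟨s, IsLocalization.map_units B s, hs⟩
  · rintro ⟨h1, h2⟩
    refine ⟨(IsUnit.submonoid B).comap φ, ⟨⟨fun s => s.2, fun b => ?_, fun {a a'} haa => ?_⟩⟩⟩
    · obtain ⟨a, s, hs, h⟩ := h1 b
      exact ⟨⟨a, s, hs⟩, h⟩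
    · obtain ⟨s, hs, h⟩ := h2 (a - a') (by rw [map_sub]; exact sub_eq_zero.2 haa)
      exact ⟨⟨s, hs⟩, sub_eq_zero.1 (by rw [← mul_sub]; exact h)⟩

theorem isLocHom_comp {φ : A →+* B} {ψ : B →+* C} (hφ : LocImm.IsLocHom φ)
    (hψ : LocImm.IsLocHom ψ) : LocImm.IsLocHom (ψ.comp φ) := by
  rw [isLocHom_iff] at *
  obtain ⟨s1, i1⟩ := hφ
  obtain ⟨s2, i2⟩ := hψ
  refine ⟨fun c => ?_, fun a ha => ?_⟩
  · obtain ⟨b, b', hb', hc⟩ := s2 c
    obtain ⟨a, s, hs, hb⟩ := s1 b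
    obtain ⟨a', s', hs', hb₁⟩ := s1 b'
    have hu : IsUnit (ψ (φ a')) := by rw [← hb₁, map_mul]; exact hb'.mul (hs'.map ψ)
    refine ⟨a * s', s * a', ?_, ?_⟩
    · simpa only [RingHom.comp_apply, map_mul] using (hs.map ψ).mul hu
    · simp only [RingHom.comp_apply, map_mul, ← hb, ← hb₁, ← hc]
      ring
  · obtain ⟨b', hb', hb⟩ := i2 _ ha
    obtain ⟨a', s', hs', hb₁⟩ := s1 b'
    obtain ⟨t, ht, hta⟩ := i1 (a' * a) (by rw [map_mul, ← hb₁, mul_right_comm, hb, zero_mul])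
    refine ⟨t * a', ?_, by rw [mul_assoc, hta]⟩
    have hu : IsUnit (ψ (φ a')) := by rw [← hb₁, map_mul]; exact hb'.mul (hs'.map ψ)
    simpa only [RingHom.comp_apply, map_mul] using (ht.map ψ).mul hu

theorem isLocHom_of_comp {φ : A →+* B} {ψ : B →+* C} (hψφ : LocImm.IsLocHom (ψ.comp φ))
    (hφ : ∀ b, ∃ a s, IsUnit (φ s) ∧ b * φ s = φ a) : LocImm.IsLocHom ψ := by
  rw [isLocHom_iff] at *
  obtain ⟨s1, i1⟩ := hψφ
  refine ⟨fun c => ?_, fun b hb => ?_⟩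
  · obtain ⟨a, s, hs, hc⟩ := s1 c
    exact ⟨φ a, φ s, hs, hc⟩
  · obtain ⟨a, s, hs, hba⟩ := hφ b
    obtain ⟨t, ht, hta⟩ := i1 a (by rw [RingHom.comp_apply, ← hba, map_mul, hb, zero_mul])
    refine ⟨φ t, ht, hs.mul_left_injective ?_⟩
    dsimp only
    rw [mul_assoc, hba, ← map_mul, hta, map_zero, zero_mul]

theorem isLocHom_of_bijective {φ : A →+* B} (h : Function.Bijective φ) : LocImm.IsLocHom φ :=
  (isLocHom_iff φ).2 ⟨fun b => ⟨(h.2 b).choose, 1, by simp, by simp [(h.2 b).choose_spec]⟩,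
    fun a ha => ⟨1, by simp, by simp [h.1 (ha.trans (map_zero φ).symm)]⟩⟩

theorem isLocHom_algebraMap (M : Submonoid A) [Algebra A B] [IsLocalization M B] :
    LocImm.IsLocHom (algebraMap A B) := by
  rw [isLocHom_iff]
  refine ⟨fun b => ?_, fun a ha => ?_⟩
  · obtain ⟨⟨a, s⟩, h⟩ := IsLocalization.surj M b
    exact ⟨a, s, IsLocalization.map_units B s, h⟩
  · obtain ⟨s, hs⟩ := (IsLocalization.map_eq_zero_iff M B a).1 ha
    exact ⟨s, IsLocalization.map_units B s, hs⟩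

/-- The localizing property is stable under base change. -/
theorem isLocHom_of_isPushout {A B A' B' : CommRingCat.{u}} {φ : A ⟶ B} {g : A ⟶ A'}
    {g' : B ⟶ B'} {φ' : A' ⟶ B'} (h : IsPushout φ g g' φ') (hφ : LocImm.IsLocHom φ.hom) :
    LocImm.IsLocHom φ'.hom := by
  algebraize [φ.hom, g.hom, g'.hom, φ'.hom, φ'.hom.comp g.hom]
  have : IsScalarTower A B B' := .of_algebraMap_eq fun a => congr($(h.w).hom a).symm
  obtain ⟨S, hS⟩ := hφ
  have : Algebra.IsPushout A B A' B' := CommRingCat.isPushout_iff_isPushout.1 h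
  exact ⟨_, (Algebra.isLocalization_iff_isPushout S ↑B).2 this.symm⟩

end Ring

variable {X Y : Scheme.{u}}

theorem isLocHom_res_basicOpen {U : Y.Opens} (hU : IsAffineOpen U) (a : Γ(Y, U)) :
    LocImm.IsLocHom (Y.presheaf.map (homOfLE (Y.basicOpen_le a)).op).hom := by
  have := hU.isLocalization_basicOpen a
  exact isLocHom_algebraMap (Submonoid.powers a)

/-- Shrinking the charts of a localizing morphism by basic opens. -/
theorem isLocHom_appLE_basicOpen (f : X ⟶ Y) {U : Y.Opens} {V : X.Opens} (hU : IsAffineOpen U)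
    (hV : IsAffineOpen V) (e : V ≤ f ⁻¹ᵁ U) (h : LocImm.IsLocHom (f.appLE U V e).hom)
    (a : Γ(Y, U)) :
    ∃ e' : X.basicOpen (f.appLE U V e a) ≤ f ⁻¹ᵁ Y.basicOpen a,
      LocImm.IsLocHom (f.appLE (Y.basicOpen a) (X.basicOpen (f.appLE U V e a)) e').hom := by
  refine ⟨by simp [Scheme.Hom.appLE, Scheme.basicOpen_res], ?_⟩
  refine isLocHom_of_comp (φ := (Y.presheaf.map (homOfLE (Y.basicOpen_le a)).op).hom) ?_
    ((isLocHom_iff _).1 (isLocHom_res_basicOpen hU a)).1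
  rw [← CommRingCat.hom_comp, Scheme.Hom.map_appLE,
    ← Scheme.Hom.appLE_map f e (homOfLE (X.basicOpen_le _)).op, CommRingCat.hom_comp]
  exact isLocHom_comp h (isLocHom_res_basicOpen hV _)

/-- A localizing morphism which is an embedding has affine localizing charts with full preimage. -/
theorem exists_affine_preimage {f : X ⟶ Y} (hf : LocImm.IsLocalizing f)
    (hemb : Topology.IsEmbedding f) (x : X) (W : Y.Opens) (hW : f x ∈ W) :
    ∃ V : Y.Opens, f x ∈ V ∧ V ≤ W ∧ IsAffineOpen V ∧ IsAffineOpen (f ⁻¹ᵁ V) ∧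
      LocImm.IsLocHom (f.app V).hom := by
  obtain ⟨U, V, hx, e, hφ⟩ := hf x
  obtain ⟨W', hW'o, hW'⟩ := hemb.isInducing.isOpen_iff.1 V.1.isOpen
  have hxW' : f x ∈ W' := by rw [← Set.mem_preimage, hW']; exact hx
  obtain ⟨a, ha, hxa⟩ := U.2.exists_basicOpen_le (V := W ⊓ ⟨W', hW'o⟩) ⟨f x, hW, hxW'⟩ (e hx)
  obtain ⟨e', hloc⟩ := isLocHom_appLE_basicOpen f U.2 V.2 e hφ a
  have hpre : f ⁻¹ᵁ Y.basicOpen a = X.basicOpen (f.appLE U V e a) := by
    have h1 : f ⁻¹ᵁ Y.basicOpen a ≤ V.1 := fun z hz => by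
      show z ∈ (V.1 : Set X)
      rw [← hW']
      exact (ha hz).2
    rw [Scheme.preimage_basicOpen, Scheme.Hom.appLE, CommRingCat.comp_apply, Scheme.basicOpen_res,
      right_eq_inf, ← Scheme.preimage_basicOpen]
    exact h1
  refine ⟨Y.basicOpen a, hxa, fun z hz => (ha hz).1, U.2.basicOpen a, ?_, ?_⟩
  · rw [hpre]
    exact V.2.basicOpen _
  · rw [Scheme.Hom.app_eq_appLE]
    have key : ∀ (O : X.Opens) (h : O ≤ f ⁻¹ᵁ Y.basicOpen a), O = X.basicOpen (f.appLE U V e a) →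
        LocImm.IsLocHom (f.appLE (Y.basicOpen a) O h).hom := by
      rintro O h rfl; exact hloc
    exact key _ _ hpre

end Groth.Agent.LocImm12
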