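import Groth.Prelude.Def_W4c5cptfessfintypeLocImm
import Groth.Agent.Lib.H12.Specialization
import Mathlib.AlgebraicGeometry.Morphisms.FlatMono
import Mathlib.AlgebraicGeometry.Morphisms.Preimmersion
import Mathlib.AlgebraicGeometry.Noetherian
import Mathlib.RingTheory.LocalRing.RingHom.Basic

/-!
# Localizing immersions
-/

universe u

open CategoryTheory Limits AlgebraicGeometry TopologicalSpace

namespace Groth.Agent.LocImm12

set_option backward.isDefEq.respectTransparency.types false

variable {X Y Z : Scheme.{u}}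

theorem isLocHom_flat {A B : Type u} [CommRing A] [CommRing B] {φ : A →+* B} (h : LocImm.IsLocHom φ) :
    φ.Flat := by
  algebraize [φ]
  obtain ⟨S, hS⟩ := h
  exact IsLocalization.flat B S

theorem isPreimmersion_SpecMap {A B : CommRingCat.{u}} {φ : A ⟶ B} (h : LocImm.IsLocHom φ.hom) :
    IsPreimmersion (Spec.map φ) := by
  algebraize [φ.hom]
  obtain ⟨S, hS⟩ := h
  exact IsPreimmersion.of_isLocalization (R := A) (S := B) S

/-- A localizing morphism is flat and surjective on stalks. -/
theorem stalkMap_flat_surjective {f : X ⟶ Y} (hf : LocImm.IsLocalizing f) (x : X) :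
    (f.stalkMap x).hom.Flat ∧ Function.Surjective (f.stalkMap x) := by
  obtain ⟨U, V, hx, e, hφ⟩ := hf x
  have := isPreimmersion_SpecMap hφ
  have : Flat (Spec.map (f.appLE U V e)) := Flat.SpecMap_iff.2 (isLocHom_flat hφ)
  have heq := IsAffineOpen.SpecMap_appLE_fromSpec f U.2 V.2 e
  have h1 : IsPreimmersion (V.2.fromSpec ≫ f) := heq ▸ inferInstance
  have h2 : Flat (V.2.fromSpec ≫ f) := heq ▸ inferInstance
  obtain ⟨z, rfl⟩ := V.2.range_fromSpec.ge hx
  have hflat := Flat.stalkMap (V.2.fromSpec ≫ f) z
  have hsurj := (V.2.fromSpec ≫ f).stalkMap_surjective z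
  rw [Scheme.Hom.stalkMap_comp] at hflat hsurj
  let e' := (asIso (V.2.fromSpec.stalkMap z)).commRingCatIsoToRingEquiv
  refine ⟨?_, fun b => ?_⟩
  · have := hflat.comp (RingHom.Flat.of_bijective e'.symm.bijective)
    rw [show (f.stalkMap (V.2.fromSpec z)).hom = (e'.symm : _ →+* _).comp
        (f.stalkMap (V.2.fromSpec z) ≫ V.2.fromSpec.stalkMap z).hom from
      RingHom.ext fun a => (e'.symm_apply_apply _).symm]
    exact this
  · obtain ⟨a, ha⟩ := hsurj (e' b)
    exact ⟨a, e'.injective ha⟩

theorem flat_of_isLocalizing {f : X ⟶ Y} (hf : LocImm.IsLocalizing f) : Flat f :=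
  Flat.of_stalkMap _ fun x => (stalkMap_flat_surjective hf x).1

theorem surjectiveOnStalks_of_isLocalizing {f : X ⟶ Y} (hf : LocImm.IsLocalizing f) :
    SurjectiveOnStalks f :=
  ⟨fun x => (stalkMap_flat_surjective hf x).2⟩

/-- A flat morphism which is surjective on stalks induces isomorphisms of stalks. -/
theorem isIso_stalkMap (f : X ⟶ Y) [Flat f] [SurjectiveOnStalks f] (x : X) :
    IsIso (f.stalkMap x) := by
  have hfl := Flat.stalkMap f x
  have hloc : IsLocalHom (f.stalkMap x).hom := inferInstance
  rw [ConcreteCategory.isIso_iff_bijective]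
  refine ⟨?_, f.stalkMap_surjective x⟩
  algebraize [(f.stalkMap x).hom]
  have : IsLocalHom (algebraMap (Y.presheaf.stalk (f x)) (X.presheaf.stalk x)) := hloc
  have : Module.FaithfullyFlat (Y.presheaf.stalk (f x)) (X.presheaf.stalk x) :=
    Module.FaithfullyFlat.of_flat_of_isLocalHom
  exact FaithfulSMul.algebraMap_injective (Y.presheaf.stalk (f x)) (X.presheaf.stalk x)

/-- A flat morphism which is quasi-compact, injective and surjective on stalks is an embedding. -/
theorem isEmbedding_of_flat (f : X ⟶ Y) [Flat f] [QuasiCompact f] (hinj : Function.Injective f) :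
    Topology.IsEmbedding f := by
  refine ⟨⟨TopologicalSpace.ext_isClosed fun s => ⟨fun hs => ?_, fun hs => ?_⟩⟩, hinj⟩
  · refine isClosed_induced_iff.2 ⟨closure (f '' s), isClosed_closure,
      subset_antisymm (fun x hx => ?_) fun x hx => subset_closure ⟨x, hx, rfl⟩⟩
    let I : X.IdealSheafData := Scheme.IdealSheafData.vanishingIdeal ⟨s, hs⟩
    have hr : Set.range I.subschemeι = s := by
      rw [Scheme.IdealSheafData.range_subschemeι]
      simp [I]
    rw [Set.mem_preimage, ← hr, ← Set.range_comp] at hx
    obtain ⟨t, ht⟩ := H12.exists_specializes_of_mem_closure_range (I.subschemeι ≫ f) (f x) hx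
    obtain ⟨x', hx'x, hx'eq⟩ := Flat.generalizingMap f ht
    have : x' ∈ s := hr ▸ ⟨t, (hinj hx'eq).symm⟩
    exact hx'x.mem_closed hs this
  · obtain ⟨C, hC, rfl⟩ := isClosed_induced_iff.1 hs
    exact hC.preimage f.continuous

theorem isPreimmersion_of_isLocImmersion {f : X ⟶ Y} [IsNoetherian X] (hf : LocImm.IsLocImmersion f) :
    IsPreimmersion f :=
  haveI := flat_of_isLocalizing hf.1
  haveI := surjectiveOnStalks_of_isLocalizing hf.1
  ⟨isEmbedding_of_flat f hf.2⟩

theorem locallyOfFinitePresentation_of_locallyOfFiniteType (f : X ⟶ Y) [IsLocallyNoetherian Y]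
    [LocallyOfFiniteType f] : LocallyOfFinitePresentation f :=
  ⟨fun {U} hU {V} hV e => by
    have := IsLocallyNoetherian.component_noetherian ⟨U, hU⟩
    exact RingHom.FinitePresentation.of_finiteType.1 (f.finiteType_appLE hU hV e)⟩

/-- An open subset of a noetherian scheme which is stable under specialization is closed. -/
theorem isClosed_of_stableUnderSpecialization [IsNoetherian Y] (U : Y.Opens)
    (h : StableUnderSpecialization (U : Set Y)) : IsClosed (U : Set Y) := by
  refine isClosed_of_closure_subset fun x hx => ?_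
  rw [← U.range_ι] at hx
  obtain ⟨t, ht⟩ := H12.exists_specializes_of_mem_closure_range U.ι x hx
  exact h ht t.2

/-- A closed subset of a noetherian scheme stable under generalization is open. -/
theorem isOpen_of_stableUnderGeneralization [IsNoetherian Y] {C : Set Y} (hC : IsClosed C)
    (h : StableUnderGeneralization C) : IsOpen C := by
  rw [← compl_compl C]
  exact (isClosed_of_stableUnderSpecialization ⟨Cᶜ, hC.isOpen_compl⟩ h.compl).isOpen_compl

theorem isOpenImmersion_of_isOpen_range (f : X ⟶ Y) [IsPreimmersion f] [Flat f]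
    (h : IsOpen (Set.range f)) : IsOpenImmersion f :=
  IsOpenImmersion.iff_isIso_stalkMap.2
    ⟨⟨f.isEmbedding, h⟩, fun x => isIso_stalkMap f x⟩

theorem stableUnderGeneralization_range (f : X ⟶ Y) [Flat f] :
    StableUnderGeneralization (Set.range f) :=
  (Flat.generalizingMap f).stableUnderGeneralization_range

end Groth.Agent.LocImm12
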