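import Groth.Agent.Lib.LocImm12.Global
import Groth.Agent.Lib.LocImm12.Noeth
import Groth.Agent.Lib.LocImm12.Glue
import Groth.Agent.Lib.LocImm12.Sep
import Groth.Agent.S18193

/-!
# Gluing two factorizations as localizing immersion followed by finite type
-/

universe u

open CategoryTheory Limits AlgebraicGeometry TopologicalSpace

namespace Groth.Agent.LocImm12

set_option backward.isDefEq.respectTransparency.types false

variable {X S : Scheme.{u}}

theorem isNoetherian_of_isOpenImmersion {U X : Scheme.{u}} [IsNoetherian X] (i : U ⟶ X)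
    [IsOpenImmersion i] : IsNoetherian U :=
  haveI : NoetherianSpace U := i.isEmbedding.isInducing.noetherianSpace
  { toIsLocallyNoetherian := isLocallyNoetherian_of_isOpenImmersion i
    toCompactSpace := inferInstance }

/-- The set of points specialized from a set stable under generalization only. -/
theorem exists_open_subset_closure {W : Scheme.{u}} [IsNoetherian W] {A : Set W}
    (hA : StableUnderGeneralization A) :
    ∃ O : W.Opens, A ⊆ O ∧ (O : Set W) ⊆ closure A := by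
  let S := {Z ∈ irreducibleComponents W | ¬ Z ⊆ closure A}
  have hS : S.Finite := NoetherianSpace.finite_irreducibleComponents.subset fun Z hZ => hZ.1
  refine ⟨⟨(⋃₀ S)ᶜ, ((Set.sUnion_eq_biUnion (s := S)) ▸ hS.isClosed_biUnion fun Z hZ =>
    isClosed_of_mem_irreducibleComponents Z hZ.1).isOpen_compl⟩, fun a ha hmem => ?_, fun w hw => ?_⟩
  · obtain ⟨Z, hZ, haZ⟩ := hmem
    have hi : IsIrreducible Z := hZ.1.1
    have hc : IsClosed Z := isClosed_of_mem_irreducibleComponents Z hZ.1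
    obtain ⟨η, hη⟩ := QuasiSober.sober hi hc
    exact hZ.2 (hη.def ▸ closure_mono (Set.singleton_subset_iff.2 (hA (hη.specializes haZ) ha)))
  · by_contra h
    exact hw ⟨irreducibleComponent w, ⟨irreducibleComponent_mem_irreducibleComponents w,
      fun hs => h (hs mem_irreducibleComponent)⟩, mem_irreducibleComponent⟩

theorem exists_factor_of_two [IsNoetherian X] [IsNoetherian S] (f : X ⟶ S) [IsSeparated f]
    (U₁ U₂ : X.Opens) (hU : U₁ ⊔ U₂ = ⊤) (Y₁ Y₂ : Scheme.{u}) [IsNoetherian Y₁] [IsNoetherian Y₂]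
    (k₁ : (U₁ : Scheme.{u}) ⟶ Y₁) (k₂ : (U₂ : Scheme.{u}) ⟶ Y₂) (p₁ : Y₁ ⟶ S) (p₂ : Y₂ ⟶ S)
    (hk₁ : LocImm.IsLocImmersion k₁) (hk₂ : LocImm.IsLocImmersion k₂)
    [IsSeparated p₁] [IsSeparated p₂] [LocallyOfFiniteType p₁] [LocallyOfFiniteType p₂]
    (h₁ : k₁ ≫ p₁ = U₁.ι ≫ f) (h₂ : k₂ ≫ p₂ = U₂.ι ≫ f) :
    ∃ (Y : Scheme.{u}) (k : X ⟶ Y) (p : Y ⟶ S), IsNoetherian Y ∧ LocImm.IsLocImmersion k ∧
      IsSeparated p ∧ LocallyOfFiniteType p ∧ QuasiCompact p ∧ k ≫ p = f := by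
  have hN1 : IsNoetherian U₁.toScheme := isNoetherian_of_isOpenImmersion U₁.ι
  have hN2 : IsNoetherian U₂.toScheme := isNoetherian_of_isOpenImmersion U₂.ι
  have hN12 : IsNoetherian (U₁ ⊓ U₂).toScheme := isNoetherian_of_isOpenImmersion (U₁ ⊓ U₂).ι
  have := isPreimmersion_of_isLocImmersion hk₁
  have := isPreimmersion_of_isLocImmersion hk₂
  let c₁ := X.homOfLE (inf_le_left : U₁ ⊓ U₂ ≤ U₁)
  let c₂ := X.homOfLE (inf_le_right : U₁ ⊓ U₂ ≤ U₂)
  have he₁ : LocImm.IsLocImmersion (c₁ ≫ k₁) :=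
    isLocImmersion_comp (isLocImmersion_of_isOpenImmersion _) hk₁
  have he₂ : LocImm.IsLocImmersion (c₂ ≫ k₂) :=
    isLocImmersion_comp (isLocImmersion_of_isOpenImmersion _) hk₂
  have hcomm : (c₁ ≫ k₁) ≫ p₁ = (c₂ ≫ k₂) ≫ p₂ := by
    simp only [c₁, c₂, Category.assoc, h₁, h₂, Scheme.homOfLE_ι_assoc]
  obtain ⟨W, k, g₁, g₂, hk, _, _, hg, hkg₁, hkg₂⟩ :=
    S18193.result (c₁ ≫ k₁) (c₂ ≫ k₂) p₁ p₂ he₁ he₂ hcomm
  have hWN : IsNoetherian W := isNoetherian_of_isOpenImmersion g₁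
  have := flat_of_isLocalizing hk.1
  obtain ⟨W', hkW', hW'⟩ := exists_open_subset_closure (stableUnderGeneralization_range k)
  let γ : W'.toScheme ⟶ pullback p₁ p₂ :=
    pullback.lift (W'.ι ≫ g₁) (W'.ι ≫ g₂) (by rw [Category.assoc, Category.assoc, hg])
  let γ' : W ⟶ pullback p₁ p₂ := pullback.lift g₁ g₂ hg
  have hγ1 : γ ≫ pullback.fst p₁ p₂ = W'.ι ≫ g₁ := pullback.lift_fst ..
  have hγ2 : γ ≫ pullback.snd p₁ p₂ = W'.ι ≫ g₂ := pullback.lift_snd ..
  have hγ'1 : γ' ≫ pullback.fst p₁ p₂ = g₁ := pullback.lift_fst ..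
  have hγ'2 : γ' ≫ pullback.snd p₁ p₂ = g₂ := pullback.lift_snd ..
  have hγ' : γ = W'.ι ≫ γ' := by
    apply pullback.hom_ext
    · rw [Category.assoc, hγ1, hγ'1]
    · rw [Category.assoc, hγ2, hγ'2]
  -- points of the closure of the graph lying over both images
  have hkey : ∀ b ∈ closure (Set.range γ), pullback.fst p₁ p₂ b ∈ Set.range k₁ →
      pullback.snd p₁ p₂ b ∈ Set.range k₂ → ∃ u, γ' (k u) = b := by
    intro b hb hb1 hb2
    let j : pullback (U₁.ι ≫ f) (U₂.ι ≫ f) ⟶ pullback p₁ p₂ :=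
      pullback.map (U₁.ι ≫ f) (U₂.ι ≫ f) p₁ p₂ k₁ k₂ (𝟙 S) (by simp [h₁]) (by simp [h₂])
    have hj : IsPreimmersion j := MorphismProperty.pullbackMap (P := @IsPreimmersion)
      ‹IsPreimmersion k₁› ‹IsPreimmersion k₂› h₁.symm h₂.symm
    obtain ⟨z, rfl⟩ : b ∈ Set.range j := by
      rw [Scheme.Pullback.range_map]; exact ⟨hb1, hb2⟩
    let δ : (U₁ ⊓ U₂).toScheme ⟶ pullback (U₁.ι ≫ f) (U₂.ι ≫ f) :=
      pullback.lift c₁ c₂ (by simp [c₁, c₂])
    have hj1 : j ≫ pullback.fst p₁ p₂ = pullback.fst _ _ ≫ k₁ := pullback.lift_fst ..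
    have hj2 : j ≫ pullback.snd p₁ p₂ = pullback.snd _ _ ≫ k₂ := pullback.lift_snd ..
    have hδ1 : δ ≫ pullback.fst _ _ = c₁ := pullback.lift_fst ..
    have hδ2 : δ ≫ pullback.snd _ _ = c₂ := pullback.lift_snd ..
    have hδ : δ ≫ j = k ≫ γ' := by
      apply pullback.hom_ext
      · rw [Category.assoc, Category.assoc, hj1, ← Category.assoc, hδ1, hγ'1, hkg₁]
      · rw [Category.assoc, Category.assoc, hj2, ← Category.assoc, hδ2, hγ'2, hkg₂]
    have hb' : j z ∈ closure (Set.range (δ ≫ j)) := by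
      refine closure_minimal ?_ isClosed_closure hb
      rintro _ ⟨w, rfl⟩
      have hwc := hW' w.2
      have : γ' w.1 ∈ closure (γ' '' Set.range k) :=
        image_closure_subset_closure_image γ'.continuous ⟨_, hwc, rfl⟩
      rw [hδ, Scheme.Hom.comp_base, TopCat.coe_comp, Set.range_comp, hγ', Scheme.Hom.comp_apply]
      exact this
    have hz : z ∈ closure (Set.range δ) := by
      rw [j.isEmbedding.closure_eq_preimage_closure_image]
      rwa [Scheme.Hom.comp_base, TopCat.coe_comp, Set.range_comp] at hb'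
    -- the diagonal of the separated morphism `f`
    let q₁ := pullback.fst (U₁.ι ≫ f) (U₂.ι ≫ f) ≫ U₁.ι
    let q₂ := pullback.snd (U₁.ι ≫ f) (U₂.ι ≫ f) ≫ U₂.ι
    have hq : q₁ ≫ f = q₂ ≫ f := by simp only [q₁, q₂, Category.assoc, pullback.condition]
    let X' : Over S := Over.mk f
    let Q' : Over S := Over.mk (q₁ ≫ f)
    let f₁ : Q' ⟶ X' := Over.homMk q₁
    let f₂ : Q' ⟶ X' := Over.homMk q₂ (by simp [Q', X', hq])
    have : IsSeparated X'.hom := ‹_›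
    let e := (equalizer.ι f₁ f₂).left
    have hec : e ≫ q₁ = e ≫ q₂ := congrArg CommaMorphism.left (equalizer.condition f₁ f₂)
    have hle : Set.range δ ⊆ Set.range e := by
      let D' : Over S := Over.mk ((δ ≫ q₁) ≫ f)
      let δ' : D' ⟶ Q' := Over.homMk δ (Category.assoc _ _ _).symm
      have hδ' : δ' ≫ f₁ = δ' ≫ f₂ := by
        ext1
        show δ ≫ q₁ = δ ≫ q₂
        simp only [q₁, q₂]
        rw [reassoc_of% hδ1, reassoc_of% hδ2, Scheme.homOfLE_ι, Scheme.homOfLE_ι]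
      rintro _ ⟨x, rfl⟩
      exact ⟨(equalizer.lift δ' hδ').left x, by
        rw [← Scheme.Hom.comp_apply, ← Over.comp_left, equalizer.lift_ι]; rfl⟩
    obtain ⟨s, rfl⟩ : z ∈ Set.range e :=
      closure_minimal hle e.isClosedEmbedding.isClosed_range hz
    have hr : Set.range (e ≫ q₁) ⊆ Set.range (U₁ ⊓ U₂).ι := by
      rintro _ ⟨t, rfl⟩
      rw [Scheme.Opens.range_ι]
      refine ⟨(pullback.fst (U₁.ι ≫ f) (U₂.ι ≫ f) (e t)).2, ?_⟩
      rw [hec]
      exact (pullback.snd (U₁.ι ≫ f) (U₂.ι ≫ f) (e t)).2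
    let l := IsOpenImmersion.lift (U₁ ⊓ U₂).ι (e ≫ q₁) hr
    have hl : l ≫ (U₁ ⊓ U₂).ι = e ≫ q₁ := IsOpenImmersion.lift_fac ..
    have hle2 : l ≫ δ = e := by
      apply pullback.hom_ext
      · rw [← cancel_mono U₁.ι, Category.assoc l, hδ1, Category.assoc, Scheme.homOfLE_ι, hl,
          Category.assoc]
      · rw [← cancel_mono U₂.ι, Category.assoc l, hδ2, Category.assoc, Scheme.homOfLE_ι, hl, hec,
          Category.assoc]
    refine ⟨l s, ?_⟩
    rw [← Scheme.Hom.comp_apply, ← hδ, ← Scheme.Hom.comp_apply, ← Scheme.Hom.comp_apply,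
      ← Category.assoc, hle2]
  -- separate the bad set
  have hγimm : IsImmersion γ := by
    have : IsImmersion (γ ≫ pullback.fst p₁ p₂) := by rw [pullback.lift_fst]; infer_instance
    exact IsImmersion.of_comp γ (pullback.fst p₁ p₂)
  have hB : IsClosed (closure (Set.range γ) \ Set.range γ) := by
    obtain ⟨O, C, hO, hC, he⟩ := γ.isLocallyClosed_range
    have : closure (Set.range γ) \ Set.range γ = closure (Set.range γ) \ O := by
      ext z
      have : z ∈ closure (Set.range γ) → z ∈ C := fun h =>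
        closure_minimal (he ▸ Set.inter_subset_right) hC h
      simp only [Set.mem_sdiff, he]
      constructor
      · rintro ⟨h1, h2⟩; exact ⟨h1, fun h => h2 ⟨h, by rw [he] at this; exact this h1⟩⟩
      · rintro ⟨h1, h2⟩; exact ⟨h1, fun h => h2 h.1⟩
    rw [this]
    exact isClosed_closure.sdiff hO
  have : IsNoetherian (pullback p₁ p₂) := isNoetherian_pullback p₁ p₂
  have := flat_of_isLocalizing hk₁.1
  have := flat_of_isLocalizing hk₂.1
  obtain ⟨(O₁ : Y₁.Opens), (O₂ : Y₂.Opens), hO₁, hO₂, hO⟩ := exists_opens_disjoint (pullback.fst p₁ p₂).continuous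
    (pullback.snd p₁ p₂).continuous (stableUnderGeneralization_range k₁)
    (stableUnderGeneralization_range k₂) hB (fun b hb h1 h2 => by
      obtain ⟨u, hu⟩ := hkey b hb.1 h1 h2
      exact hb.2 ⟨⟨k u, hkW' ⟨u, rfl⟩⟩, by rw [hγ', Scheme.Hom.comp_apply]; exact hu⟩)
  let W'' : W'.toScheme.Opens := (W'.ι ≫ g₁) ⁻¹ᵁ O₁ ⊓ (W'.ι ≫ g₂) ⁻¹ᵁ O₂
  have hra : Set.range (W''.ι ≫ W'.ι ≫ g₁) ⊆ Set.range O₁.ι := by
    rintro _ ⟨w, rfl⟩; rw [Scheme.Opens.range_ι]; exact w.2.1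
  have hrb : Set.range (W''.ι ≫ W'.ι ≫ g₂) ⊆ Set.range O₂.ι := by
    rintro _ ⟨w, rfl⟩; rw [Scheme.Opens.range_ι]; exact w.2.2
  let a := IsOpenImmersion.lift O₁.ι _ hra
  let b := IsOpenImmersion.lift O₂.ι _ hrb
  have ha : a ≫ O₁.ι = W''.ι ≫ W'.ι ≫ g₁ := IsOpenImmersion.lift_fac ..
  have hb : b ≫ O₂.ι = W''.ι ≫ W'.ι ≫ g₂ := IsOpenImmersion.lift_fac ..
  have : IsOpenImmersion a := by
    have : IsOpenImmersion (a ≫ O₁.ι) := by rw [ha]; infer_instance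
    exact IsOpenImmersion.of_comp a O₁.ι
  have : IsOpenImmersion b := by
    have : IsOpenImmersion (b ≫ O₂.ι) := by rw [hb]; infer_instance
    exact IsOpenImmersion.of_comp b O₂.ι
  obtain ⟨Y, j₁, j₂, _, _, hpo, hcov, hint⟩ := exists_glue a b
  have hpp : a ≫ O₁.ι ≫ p₁ = b ≫ O₂.ι ≫ p₂ := by
    rw [reassoc_of% ha, reassoc_of% hb, hg]
  let p := hpo.desc (O₁.ι ≫ p₁) (O₂.ι ≫ p₂) hpp
  have hp₁ : j₁ ≫ p = O₁.ι ≫ p₁ := hpo.inl_desc ..
  have hp₂ : j₂ ≫ p = O₂.ι ≫ p₂ := hpo.inr_desc ..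
  have hsep : IsSeparated p := by
    have : IsSeparated (j₁ ≫ p) := by rw [hp₁]; infer_instance
    have : IsSeparated (j₂ ≫ p) := by rw [hp₂]; infer_instance
    refine isSeparated_of_glue p j₁ j₂ hcov hpo.w ?_ hint
    let m : pullback (j₁ ≫ p) (j₂ ≫ p) ⟶ pullback p₁ p₂ :=
      pullback.map _ _ _ _ O₁.ι O₂.ι (𝟙 S) (by simp [hp₁]) (by simp [hp₂])
    let ab := pullback.lift a b
      (show a ≫ (j₁ ≫ p) = b ≫ (j₂ ≫ p) by rw [hp₁, hp₂, hpp])
    have hab : ab ≫ m = W''.ι ≫ γ := by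
      have hm1 : m ≫ pullback.fst p₁ p₂ = pullback.fst _ _ ≫ O₁.ι := pullback.lift_fst ..
      have hm2 : m ≫ pullback.snd p₁ p₂ = pullback.snd _ _ ≫ O₂.ι := pullback.lift_snd ..
      have hab1 : ab ≫ pullback.fst _ _ = a := pullback.lift_fst ..
      have hab2 : ab ≫ pullback.snd _ _ = b := pullback.lift_snd ..
      apply pullback.hom_ext
      · rw [Category.assoc, Category.assoc, hm1, ← Category.assoc, hab1, hγ1, ha]
      · rw [Category.assoc, Category.assoc, hm2, ← Category.assoc, hab2, hγ2, hb]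
    have hset : Set.range ab = m ⁻¹' closure (Set.range γ) := by
      refine subset_antisymm ?_ fun z hz => ?_
      · rintro _ ⟨w, rfl⟩
        rw [Set.mem_preimage, ← Scheme.Hom.comp_apply, hab]
        exact subset_closure ⟨_, rfl⟩
      · have h1 : pullback.fst p₁ p₂ (m z) ∈ O₁ := by
          rw [← Scheme.Hom.comp_apply, pullback.lift_fst, Scheme.Hom.comp_apply]
          exact (pullback.fst (j₁ ≫ p) (j₂ ≫ p) z).2
        have h2 : pullback.snd p₁ p₂ (m z) ∈ O₂ := by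
          rw [← Scheme.Hom.comp_apply, pullback.lift_snd, Scheme.Hom.comp_apply]
          exact (pullback.snd (j₁ ≫ p) (j₂ ≫ p) z).2
        obtain ⟨w, hw⟩ : m z ∈ Set.range γ := by
          by_contra hn
          exact hO _ ⟨hz, hn⟩ h1 h2
        have hw'' : w ∈ W'' := by
          constructor
          · show (W'.ι ≫ g₁) w ∈ O₁
            rw [← pullback.lift_fst (W'.ι ≫ g₁) (W'.ι ≫ g₂) (f := p₁) (g := p₂)
              (by rw [Category.assoc, Category.assoc, hg]), Scheme.Hom.comp_apply]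
            exact hw.symm ▸ h1
          · show (W'.ι ≫ g₂) w ∈ O₂
            rw [← pullback.lift_snd (W'.ι ≫ g₁) (W'.ι ≫ g₂) (f := p₁) (g := p₂)
              (by rw [Category.assoc, Category.assoc, hg]), Scheme.Hom.comp_apply]
            exact hw.symm ▸ h2
        refine ⟨⟨w, hw''⟩, ?_⟩
        have : IsPreimmersion m := MorphismProperty.pullbackMap (P := @IsPreimmersion)
          (inferInstance : IsPreimmersion O₁.ι) (inferInstance : IsPreimmersion O₂.ι) hp₁ hp₂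
        apply m.isEmbedding.injective
        rw [← Scheme.Hom.comp_apply, hab, ← hw]
        rfl
    rw [hset]
    exact isClosed_closure.preimage m.continuous
  -- noetherian
  have hNO₁ : IsNoetherian O₁.toScheme := isNoetherian_of_isOpenImmersion O₁.ι
  have hNO₂ : IsNoetherian O₂.toScheme := isNoetherian_of_isOpenImmersion O₂.ι
  have hlft : LocallyOfFiniteType p := by
    refine IsZariskiLocalAtSource.of_iSup_eq_top
      (fun i : Bool => bif i then j₁.opensRange else j₂.opensRange)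
      (eq_top_iff.2 fun y _ => ?_) fun i => ?_
    · rcases hcov.ge (Set.mem_univ y) with hy | hy
      exacts [Opens.mem_iSup.2 ⟨true, hy⟩, Opens.mem_iSup.2 ⟨false, hy⟩]
    · cases i <;> simp only [cond_true, cond_false]
      · rw [← MorphismProperty.cancel_left_of_respectsIso @LocallyOfFiniteType j₂.isoOpensRange.hom,
          Scheme.Hom.isoOpensRange_hom_ι_assoc, hp₂]
        infer_instance
      · rw [← MorphismProperty.cancel_left_of_respectsIso @LocallyOfFiniteType j₁.isoOpensRange.hom,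
          Scheme.Hom.isoOpensRange_hom_ι_assoc, hp₁]
        infer_instance
  have hYN : IsNoetherian Y :=
    { toIsLocallyNoetherian := LocallyOfFiniteType.isLocallyNoetherian p
      toCompactSpace := ⟨hcov ▸ (isCompact_range j₁.continuous).union
        (isCompact_range j₂.continuous)⟩ }
  -- the morphism from `X`
  have hr₁ : Set.range k₁ ⊆ Set.range O₁.ι := by rw [Scheme.Opens.range_ι]; exact hO₁
  have hr₂ : Set.range k₂ ⊆ Set.range O₂.ι := by rw [Scheme.Opens.range_ι]; exact hO₂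
  let k₁' := IsOpenImmersion.lift O₁.ι k₁ hr₁
  let k₂' := IsOpenImmersion.lift O₂.ι k₂ hr₂
  have hk₁' : k₁' ≫ O₁.ι = k₁ := IsOpenImmersion.lift_fac ..
  have hk₂' : k₂' ≫ O₂.ι = k₂ := IsOpenImmersion.lift_fac ..
  have hov : c₁ ≫ k₁' ≫ j₁ = c₂ ≫ k₂' ≫ j₂ := by
    have hrk : Set.range k ⊆ Set.range (W''.ι ≫ W'.ι) := by
      rintro _ ⟨u, rfl⟩
      refine ⟨⟨⟨k u, hkW' ⟨u, rfl⟩⟩, ?_, ?_⟩, rfl⟩
      · show g₁ (k u) ∈ O₁
        rw [← Scheme.Hom.comp_apply, hkg₁]; exact hO₁ ⟨_, rfl⟩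
      · show g₂ (k u) ∈ O₂
        rw [← Scheme.Hom.comp_apply, hkg₂]; exact hO₂ ⟨_, rfl⟩
    let k' := IsOpenImmersion.lift (W''.ι ≫ W'.ι) k hrk
    have hk' : k' ≫ W''.ι ≫ W'.ι = k := IsOpenImmersion.lift_fac ..
    have e1 : c₁ ≫ k₁' = k' ≫ a := by
      rw [← cancel_mono O₁.ι, Category.assoc, hk₁', Category.assoc, ha, reassoc_of% hk', hkg₁]
    have e2 : c₂ ≫ k₂' = k' ≫ b := by
      rw [← cancel_mono O₂.ι, Category.assoc, hk₂', Category.assoc, hb, reassoc_of% hk', hkg₂]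
    rw [reassoc_of% e1, reassoc_of% e2, hpo.w]
  let 𝒰 : X.OpenCover := X.openCoverOfIsOpenCover (fun i : Bool => bif i then U₁ else U₂)
    (.mk (eq_top_iff.2 fun x _ => by
      rcases (hU.ge (Opens.mem_top x) : x ∈ (U₁ : Set X) ∪ U₂) with hx | hx
      exacts [Opens.mem_iSup.2 ⟨true, hx⟩, Opens.mem_iSup.2 ⟨false, hx⟩]))
  have hsym : pullback.fst U₁.ι U₂.ι ≫ k₁' ≫ j₁ = pullback.snd U₁.ι U₂.ι ≫ k₂' ≫ j₂ := by
    have hr : Set.range (pullback.fst U₁.ι U₂.ι ≫ U₁.ι) ⊆ Set.range (U₁ ⊓ U₂).ι := by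
      rintro _ ⟨z, rfl⟩
      rw [Scheme.Opens.range_ι]
      refine ⟨(pullback.fst U₁.ι U₂.ι z).2, ?_⟩
      rw [pullback.condition]
      exact (pullback.snd U₁.ι U₂.ι z).2
    have e1 : IsOpenImmersion.lift (U₁ ⊓ U₂).ι _ hr ≫ c₁ = pullback.fst U₁.ι U₂.ι := by
      rw [← cancel_mono U₁.ι, Category.assoc, Scheme.homOfLE_ι, IsOpenImmersion.lift_fac]
    have e2 : IsOpenImmersion.lift (U₁ ⊓ U₂).ι _ hr ≫ c₂ = pullback.snd U₁.ι U₂.ι := by
      rw [← cancel_mono U₂.ι, Category.assoc, Scheme.homOfLE_ι, IsOpenImmersion.lift_fac,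
        pullback.condition]
    rw [← e1, ← e2, Category.assoc, Category.assoc, hov]
  let φ : ∀ i : Bool, (bif i then U₁ else U₂).toScheme ⟶ Y
    | true => k₁' ≫ j₁
    | false => k₂' ≫ j₂
  let kX : X ⟶ Y := 𝒰.glueMorphisms φ (fun i j => by
    cases i <;> cases j
    · show pullback.fst U₂.ι U₂.ι ≫ _ = pullback.snd U₂.ι U₂.ι ≫ _
      rw [fst_eq_snd_of_mono_eq]
    · show pullback.fst U₂.ι U₁.ι ≫ k₂' ≫ j₂ = pullback.snd U₂.ι U₁.ι ≫ k₁' ≫ j₁
      rw [← cancel_epi (pullbackSymmetry U₁.ι U₂.ι).hom, pullbackSymmetry_hom_comp_fst_assoc,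
        pullbackSymmetry_hom_comp_snd_assoc, hsym]
    · exact hsym
    · show pullback.fst U₁.ι U₁.ι ≫ _ = pullback.snd U₁.ι U₁.ι ≫ _
      rw [fst_eq_snd_of_mono_eq])
  have hkX₁ : U₁.ι ≫ kX = k₁' ≫ j₁ := 𝒰.ι_glueMorphisms φ _ true
  have hkX₂ : U₂.ι ≫ kX = k₂' ≫ j₂ := 𝒰.ι_glueMorphisms φ _ false
  have hl₁ : LocImm.IsLocImmersion k₁' := by
    have : IsPreimmersion (k₁' ≫ O₁.ι) := hk₁'.symm ▸ inferInstance
    exact isLocImmersion_of_comp_openImmersion O₁.ι (hk₁'.symm ▸ hk₁)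
  have hl₂ : LocImm.IsLocImmersion k₂' := by
    have : IsPreimmersion (k₂' ≫ O₂.ι) := hk₂'.symm ▸ inferInstance
    exact isLocImmersion_of_comp_openImmersion O₂.ι (hk₂'.symm ▸ hk₂)
  refine ⟨Y, kX, p, hYN, ⟨isLocalizing_of_forall fun x => ?_, ?_⟩, hsep, hlft, inferInstance, ?_⟩
  · rcases (hU.ge (Opens.mem_top x) : x ∈ (U₁ : Set X) ∪ U₂) with hx | hx
    · exact ⟨U₁, hx, hkX₁ ▸ isLocalizing_comp hl₁.1 (isLocalizing_of_isOpenImmersion _)⟩
    · exact ⟨U₂, hx, hkX₂ ▸ isLocalizing_comp hl₂.1 (isLocalizing_of_isOpenImmersion _)⟩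
  · have hx₁ : ∀ v : U₁.toScheme, kX v.1 = j₁ (k₁' v) := fun v => by
      rw [← Scheme.Hom.comp_apply, ← hkX₁]; rfl
    have hx₂ : ∀ v : U₂.toScheme, kX v.1 = j₂ (k₂' v) := fun v => by
      rw [← Scheme.Hom.comp_apply, ← hkX₂]; rfl
    have hmix : ∀ (v₁ : U₁.toScheme) (v₂ : U₂.toScheme), j₁ (k₁' v₁) = j₂ (k₂' v₂) → v₁.1 = v₂.1 := by
      intro v₁ v₂ h
      obtain ⟨w, hwa, hwb⟩ := hint _ _ h
      have e1 : pullback.fst p₁ p₂ (γ (W''.ι w)) = k₁ v₁ := by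
        rw [← Scheme.Hom.comp_apply, ← Scheme.Hom.comp_apply, pullback.lift_fst, ← ha,
          Scheme.Hom.comp_apply, hwa, ← Scheme.Hom.comp_apply, hk₁']
      have e2 : pullback.snd p₁ p₂ (γ (W''.ι w)) = k₂ v₂ := by
        rw [← Scheme.Hom.comp_apply, ← Scheme.Hom.comp_apply, pullback.lift_snd, ← hb,
          Scheme.Hom.comp_apply, hwb, ← Scheme.Hom.comp_apply, hk₂']
      obtain ⟨u, hu⟩ := hkey _ (subset_closure ⟨_, rfl⟩) ⟨v₁, e1.symm⟩ ⟨v₂, e2.symm⟩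
      have e1' : k₁ v₁ = k₁ (c₁ u) := by
        rw [← e1, ← hu, ← Scheme.Hom.comp_apply, ← Scheme.Hom.comp_apply, pullback.lift_fst, hkg₁]
        rfl
      have e2' : k₂ v₂ = k₂ (c₂ u) := by
        rw [← e2, ← hu, ← Scheme.Hom.comp_apply, ← Scheme.Hom.comp_apply, pullback.lift_snd, hkg₂]
        rfl
      rw [hk₁.2 e1', hk₂.2 e2']
      simp [c₁, c₂]
    intro x₁ x₂ h
    rcases (hU.ge (Opens.mem_top x₁) : x₁ ∈ (U₁ : Set X) ∪ U₂) with m₁ | m₁ <;>
      rcases (hU.ge (Opens.mem_top x₂) : x₂ ∈ (U₁ : Set X) ∪ U₂) with m₂ | m₂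
    · have h' := (hx₁ ⟨x₁, m₁⟩).symm.trans (h.trans (hx₁ ⟨x₂, m₂⟩))
      exact congrArg Subtype.val (hl₁.2 (j₁.isOpenEmbedding.injective h'))
    · exact hmix ⟨x₁, m₁⟩ ⟨x₂, m₂⟩ ((hx₁ ⟨x₁, m₁⟩).symm.trans (h.trans (hx₂ ⟨x₂, m₂⟩)))
    · exact (hmix ⟨x₂, m₂⟩ ⟨x₁, m₁⟩ ((hx₁ ⟨x₂, m₂⟩).symm.trans (h.symm.trans (hx₂ ⟨x₁, m₁⟩)))).symm
    · have h' := (hx₂ ⟨x₁, m₁⟩).symm.trans (h.trans (hx₂ ⟨x₂, m₂⟩))
      exact congrArg Subtype.val (hl₂.2 (j₂.isOpenEmbedding.injective h'))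
  · refine Scheme.Cover.hom_ext 𝒰 _ _ fun i => ?_
    cases i
    · show U₂.ι ≫ kX ≫ p = U₂.ι ≫ f
      rw [reassoc_of% hkX₂, hp₂, reassoc_of% hk₂', h₂]
    · show U₁.ι ≫ kX ≫ p = U₁.ι ≫ f
      rw [reassoc_of% hkX₁, hp₁, reassoc_of% hk₁', h₁]

end Groth.Agent.LocImm12
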