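import Groth.Agent.Lib.LocImm12.FactorAll

/-!
# Localizable properties of morphisms essentially of finite type
-/

universe u

open CategoryTheory Limits AlgebraicGeometry TopologicalSpace

namespace Groth.Agent.LocImm12

set_option backward.isDefEq.respectTransparency.types false

variable {X Y Z : Scheme.{u}}

theorem isLocImmersion_fromSpecStalk (x : X) : LocImm.IsLocImmersion (X.fromSpecStalk x) := by
  obtain ⟨V, hV, hx, -⟩ := exists_isAffineOpen_mem_and_subset (x := x) (U := ⊤) trivial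
  rw [← IsAffineOpen.fromSpecStalk_eq_fromSpecStalk hV hx, IsAffineOpen.fromSpecStalk]
  refine isLocImmersion_comp (isLocImmersion_SpecMap ?_) (isLocImmersion_of_isOpenImmersion _)
  let : Algebra Γ(X, V) (X.presheaf.stalk x) := X.presheaf.algebra_section_stalk ⟨x, hx⟩
  have : IsLocalization.AtPrime (X.presheaf.stalk x) (hV.primeIdealOf ⟨x, hx⟩).asIdeal :=
    hV.isLocalization_stalk ⟨x, hx⟩
  exact isLocHom_algebraMap (hV.primeIdealOf ⟨x, hx⟩).asIdeal.primeCompl

theorem locallyEssFiniteType_of_isLocalizing {f : X ⟶ Y} (h : LocImm.IsLocalizing f) :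
    EssFT.LocallyEssFiniteType f := by
  rw [EssFT.locallyEssFiniteType_iff]
  intro x
  obtain ⟨U, V, hx, e, hl⟩ := h x
  refine ⟨U, V, hx, e, ?_⟩
  algebraize [(f.appLE U.1 V.1 e).hom]
  obtain ⟨M, hM⟩ := hl
  exact Algebra.EssFiniteType.of_isLocalization _ M

instance : MorphismProperty.IsStableUnderComposition @EssFT.LocallyEssFiniteType :=
  HasRingHomProperty.stableUnderComposition (RingHom.locally_stableUnderComposition
    RingHom.EssFiniteType.respectsIso
    RingHom.EssFiniteType.isStableUnderBaseChange.localizationPreserves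
    RingHom.EssFiniteType.stableUnderComposition)

theorem essFiniteType_comp (f : X ⟶ Y) (g : Y ⟶ Z) [QuasiCompact f] [QuasiCompact g]
    [EssFT.LocallyEssFiniteType f] [EssFT.LocallyEssFiniteType g] : EssFT.EssFiniteType (f ≫ g) :=
  { toLocallyEssFiniteType :=
      MorphismProperty.comp_mem @EssFT.LocallyEssFiniteType f g ‹_› ‹_›
    toQuasiCompact := inferInstance }

theorem isNoetherian_stalk [IsLocallyNoetherian X] (x : X) :
    IsNoetherian (Spec (X.presheaf.stalk x)) :=
  inferInstance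

/-- The property is insensitive to isomorphisms of stalks. -/
theorem prop_fromSpecStalk_iff (P : MorphismProperty Scheme.{u})
    (hα : ∀ {W X Y : Scheme.{u}} [IsNoetherian W] [IsNoetherian X] [IsNoetherian Y] (i : W ⟶ X)
      (f : X ⟶ Y) [IsSeparated f] [EssFT.EssFiniteType f], LocImm.IsLocImmersion i → P f → P (i ≫ f))
    [IsNoetherian X] [IsNoetherian Y] [IsNoetherian Z] (k : X ⟶ Y) (h : Y ⟶ Z) [IsSeparated h]
    [EssFT.LocallyEssFiniteType h] (hk : LocImm.IsLocImmersion k) (x : X) :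
    P (X.fromSpecStalk x ≫ k ≫ h) ↔ P (Y.fromSpecStalk (k x) ≫ h) := by
  have := flat_of_isLocalizing hk.1
  have := surjectiveOnStalks_of_isLocalizing hk.1
  have := isPreimmersion_of_isLocImmersion hk
  have := isIso_stalkMap k x
  have := locallyEssFiniteType_of_isLocalizing
    (isLocImmersion_fromSpecStalk (k x)).1
  have := locallyEssFiniteType_of_isLocalizing (isLocImmersion_fromSpecStalk x).1
  have := locallyEssFiniteType_of_isLocalizing hk.1
  have e : Spec.map (k.stalkMap x) ≫ Y.fromSpecStalk (k x) ≫ h = X.fromSpecStalk x ≫ k ≫ h := by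
    rw [← Category.assoc, Scheme.SpecMap_stalkMap_fromSpecStalk, Category.assoc]
  constructor
  · intro hP
    have : IsIso (Spec.map (k.stalkMap x)) := inferInstance
    rw [show Y.fromSpecStalk (k x) ≫ h = inv (Spec.map (k.stalkMap x)) ≫
      (X.fromSpecStalk x ≫ k ≫ h) by rw [← e, IsIso.inv_hom_id_assoc]]
    have : IsSeparated (X.fromSpecStalk x ≫ k ≫ h) := inferInstance
    have : EssFT.LocallyEssFiniteType (k ≫ h) :=
      MorphismProperty.comp_mem @EssFT.LocallyEssFiniteType k h ‹_› ‹_›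
    have := essFiniteType_comp (X.fromSpecStalk x) (k ≫ h)
    exact hα _ _ (isLocImmersion_of_isOpenImmersion _) hP
  · intro hP
    rw [← e]
    have := essFiniteType_comp (Y.fromSpecStalk (k x)) h
    exact hα _ _ (isLocImmersion_of_isOpenImmersion _) hP

theorem localizable_property (P : MorphismProperty Scheme.{u})
    (hα : ∀ {W X Y : Scheme.{u}} [IsNoetherian W] [IsNoetherian X] [IsNoetherian Y] (i : W ⟶ X) (f : X ⟶ Y) [IsSeparated f] [EssFT.EssFiniteType f], LocImm.IsLocImmersion i → P f → P (i ≫ f))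
    (hβ₁ : ∀ {X Y : Scheme.{u}} [IsNoetherian X] [IsNoetherian Y] (f : X ⟶ Y) [IsSeparated f] [LocallyOfFiniteType f], (∀ x : X, P (X.fromSpecStalk x ≫ f)) → P f)
    (hβ₂ : ∀ {X Y : Scheme.{u}} [IsNoetherian X] [IsNoetherian Y] (f : X ⟶ Y) [IsSeparated f] [LocallyOfFiniteType f], IsOpen {x : X | P (X.fromSpecStalk x ≫ f)})
    {X Y : Scheme.{u}} [IsNoetherian X] [IsNoetherian Y] (f : X ⟶ Y) [IsSeparated f] [EssFT.EssFiniteType f] :
    ((∀ x : X, P (X.fromSpecStalk x ≫ f)) → P f) ∧ IsOpen {x : X | P (X.fromSpecStalk x ≫ f)} ∧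
      (P f → ∃ (Z : Scheme.{u}) (i : X ⟶ Z) (h : Z ⟶ Y), IsNoetherian Z ∧ LocImm.IsLocImmersion i ∧ IsSeparated h ∧ LocallyOfFiniteType h ∧ QuasiCompact h ∧ P h ∧ i ≫ h = f) := by
  obtain ⟨Z, k, h, _, hk, _, _, _, rfl⟩ := exists_factor f
  have := locallyEssFiniteType_of_locallyOfFiniteType h
  have hpre := isPreimmersion_of_isLocImmersion hk
  have hloc : {x : X | P (X.fromSpecStalk x ≫ k ≫ h)} =
      k ⁻¹' {z : Z | P (Z.fromSpecStalk z ≫ h)} :=
    Set.ext fun x => prop_fromSpecStalk_iff P hα k h hk x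
  have key : (∀ x : X, P (X.fromSpecStalk x ≫ k ≫ h)) →
      ∃ (Z' : Scheme.{u}) (i : X ⟶ Z') (h' : Z' ⟶ Y), IsNoetherian Z' ∧ LocImm.IsLocImmersion i ∧
        IsSeparated h' ∧ LocallyOfFiniteType h' ∧ QuasiCompact h' ∧ P h' ∧ i ≫ h' = k ≫ h := by
    intro hall
    let O : Z.Opens := ⟨_, hβ₂ h⟩
    have hr : Set.range k ⊆ Set.range O.ι := by
      rw [Scheme.Opens.range_ι]
      rintro _ ⟨x, rfl⟩
      exact (prop_fromSpecStalk_iff P hα k h hk x).1 (hall x)
    have hON : IsNoetherian O.toScheme := isNoetherian_of_isOpenImmersion O.ι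
    let i := IsOpenImmersion.lift O.ι k hr
    have hi : i ≫ O.ι = k := IsOpenImmersion.lift_fac ..
    have : IsPreimmersion (i ≫ O.ι) := hi.symm ▸ inferInstance
    refine ⟨O.toScheme, i, O.ι ≫ h, hON,
      isLocImmersion_of_comp_openImmersion O.ι (hi.symm ▸ hk), inferInstance, inferInstance,
      inferInstance, hβ₁ _ fun z => ?_, by rw [← Category.assoc, hi]⟩
    exact (prop_fromSpecStalk_iff P hα O.ι h (isLocImmersion_of_isOpenImmersion _) z).2 z.2
  refine ⟨fun hall => ?_, hloc ▸ (hβ₂ h).preimage k.continuous, fun hP => key fun x => ?_⟩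
  · obtain ⟨Z', i, h', _, hi, _, _, _, hP, e⟩ := key hall
    have := locallyEssFiniteType_of_locallyOfFiniteType h'
    have : EssFT.EssFiniteType h' :=
      { toLocallyEssFiniteType := ‹_›
        toQuasiCompact := ‹_› }
    exact e ▸ hα i h' hi hP
  · exact hα _ _ (isLocImmersion_fromSpecStalk x) hP

end Groth.Agent.LocImm12
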