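import Groth.Agent.Lib.LocImm12.LocHom
import Groth.Prelude.Def_EssFT
import Mathlib.AlgebraicGeometry.Morphisms.Proper

/-!
# Universally closed morphisms essentially of finite type
-/

universe u

open CategoryTheory Limits AlgebraicGeometry TopologicalSpace

namespace Groth.Agent.LocImm12

set_option backward.isDefEq.respectTransparency.types false

/-- The graph of `k` is closed in the preimage of the image of `k`. -/
theorem closure_range_inter_subset {V P Q : Scheme.{u}} (γ : V ⟶ P) (h : P ⟶ Q) (k : V ⟶ Q)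
    [IsSeparated h] [IsPreimmersion k] (hk : γ ≫ h = k) :
    closure (Set.range γ) ∩ h ⁻¹' Set.range k ⊆ Set.range γ := by
  rintro z ⟨hz, hzk⟩
  rw [← Scheme.Pullback.range_fst] at hzk
  obtain ⟨z₂, rfl⟩ := hzk
  let γ₂ : V ⟶ pullback h k := pullback.lift γ (𝟙 V) (by rw [hk, Category.id_comp])
  have hsnd : γ₂ ≫ pullback.snd h k = 𝟙 V := pullback.lift_snd ..
  have hfst : γ₂ ≫ pullback.fst h k = γ := pullback.lift_fst ..
  have : IsClosedImmersion (γ₂ ≫ pullback.snd h k) := hsnd ▸ inferInstance
  have : IsClosedImmersion γ₂ := IsClosedImmersion.of_comp γ₂ (pullback.snd h k)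
  have hrange : Set.range γ = pullback.fst h k '' Set.range γ₂ := by
    rw [← Set.range_comp]
    exact congrArg (fun m : V ⟶ P => Set.range m) hfst.symm
  rw [hrange] at hz ⊢
  have h2 : z₂ ∈ closure (Set.range γ₂) := by
    rw [(pullback.fst h k).isEmbedding.closure_eq_preimage_closure_image]
    exact hz
  rw [γ₂.isClosedEmbedding.isClosed_range.closure_eq] at h2
  exact ⟨z₂, h2, rfl⟩

/-- A flat preimmersion `k : V ⟶ W` over `S` is open, if `V` is open in some `X` universally
closed and separated over `S`, and `W` is separated over `S`. -/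
theorem isOpen_range_of_universallyClosed {X S W V : Scheme.{u}} (f : X ⟶ S) [IsSeparated f]
    [UniversallyClosed f] (p : W ⟶ S) [IsSeparated p] [IsNoetherian W] (j : V ⟶ X)
    [IsOpenImmersion j] (k : V ⟶ W) [IsPreimmersion k] [Flat k] (h : j ≫ f = k ≫ p) :
    IsOpen (Set.range k) := by
  let γ : V ⟶ pullback f p := pullback.lift j k h
  have hγ1 : γ ≫ pullback.fst f p = j := pullback.lift_fst ..
  have hγ2 : γ ≫ pullback.snd f p = k := pullback.lift_snd ..
  have hj := closure_range_inter_subset γ _ j hγ1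
  have hk := closure_range_inter_subset γ _ k hγ2
  have hcl : IsClosedMap (pullback.snd f p) := (pullback.snd f p).isClosedMap
  have hrk : ∀ v, pullback.snd f p (γ v) = k v := fun v => by
    rw [← Scheme.Hom.comp_apply, hγ2]
  have hrj : ∀ v, pullback.fst f p (γ v) = j v := fun v => by
    rw [← Scheme.Hom.comp_apply, hγ1]
  let Γ := closure (Set.range γ)
  let T := pullback.snd f p '' (Γ ∩ (pullback.fst f p ⁻¹' Set.range j)ᶜ)
  let C := pullback.snd f p '' Γ
  have hT : IsClosed T := hcl _ (isClosed_closure.inter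
    (j.isOpenEmbedding.isOpen_range.preimage (pullback.fst f p).continuous).isClosed_compl)
  have hC : IsClosed C := hcl _ isClosed_closure
  have hkT : ∀ y ∈ Set.range k, y ∉ T := by
    rintro y hy ⟨z, ⟨hz, hzj⟩, rfl⟩
    obtain ⟨v, rfl⟩ := hk ⟨hz, hy⟩
    exact hzj ⟨v, (hrj v).symm⟩
  have hCT : ∀ y ∈ C, y ∉ T → y ∈ Set.range k := by
    rintro _ ⟨z, hz, rfl⟩ hzT
    have hzj : z ∈ pullback.fst f p ⁻¹' Set.range j := by
      by_contra hn
      exact hzT ⟨z, ⟨hz, hn⟩, rfl⟩
    obtain ⟨v, rfl⟩ := hj ⟨hz, hzj⟩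
    exact ⟨v, (hrk v).symm⟩
  have hgen := stableUnderGeneralization_range k
  have hcompl : (Set.range k)ᶜ = T ∪ closure Cᶜ := by
    refine subset_antisymm (fun y hy => ?_) (Set.union_subset (fun y hy hyk => hkT y hyk hy) ?_)
    · by_cases hyT : y ∈ T
      · exact Or.inl hyT
      · exact Or.inr (subset_closure fun hyC => hy (hCT y hyC hyT))
    · intro y hy hyk
      let O : W.Opens := ⟨Cᶜ, hC.isOpen_compl⟩
      rw [show Cᶜ = Set.range O.ι from O.range_ι.symm] at hy
      obtain ⟨t, ht⟩ := H12.exists_specializes_of_mem_closure_range O.ι y hy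
      obtain ⟨v, hv⟩ := hgen ht hyk
      have : O.ι t ∈ Cᶜ := t.2
      exact this ⟨γ v, subset_closure ⟨v, rfl⟩, (hrk v).trans hv⟩
  rw [← isClosed_compl_iff, hcompl]
  exact hT.union isClosed_closure

theorem locallyOfFiniteType_of_universallyClosed {X S : Scheme.{u}} [IsNoetherian S]
    (f : X ⟶ S) [IsSeparated f] [EssFT.LocallyEssFiniteType f] [UniversallyClosed f] :
    LocallyOfFiniteType f := by
  have h := fun x => EssFT.LocallyEssFiniteType.exists_appLE_essFiniteType (f := f) x
  choose U V hx e hφ using h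
  refine IsZariskiLocalAtSource.of_iSup_eq_top (fun x => (V x).1)
    (eq_top_iff.2 fun x _ => Opens.mem_iSup.2 ⟨x, hx x⟩) fun x => ?_
  rw [← MorphismProperty.cancel_left_of_respectsIso @LocallyOfFiniteType (V x).2.isoSpec.inv,
    ← Category.assoc, IsAffineOpen.isoSpec_inv_ι]
  have hφx : RingHom.EssFiniteType (f.appLE (U x).1 (V x).1 (e x)).hom := hφ x
  algebraize [(f.appLE (U x).1 (V x).1 (e x)).hom]
  let C := Algebra.EssFiniteType.subalgebra Γ(S, U x) Γ(X, V x)
  let M := Algebra.EssFiniteType.submonoid Γ(S, U x) Γ(X, V x)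
  have : IsLocalization M Γ(X, V x) := inferInstance
  have : IsNoetherianRing Γ(S, U x) := IsLocallyNoetherian.component_noetherian (U x)
  have : IsNoetherianRing C := Algebra.FiniteType.isNoetherianRing Γ(S, U x) C
  let a : Γ(S, U x) ⟶ CommRingCat.of C := CommRingCat.ofHom (algebraMap Γ(S, U x) C)
  let b : CommRingCat.of C ⟶ Γ(X, V x) := CommRingCat.ofHom (algebraMap C Γ(X, V x))
  have hab : f.appLE (U x).1 (V x).1 (e x) = a ≫ b :=
    CommRingCat.hom_ext (IsScalarTower.algebraMap_eq Γ(S, U x) C Γ(X, V x))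
  have hb : LocImm.IsLocHom b.hom := isLocHom_algebraMap M
  have : IsPreimmersion (Spec.map b) := isPreimmersion_SpecMap hb
  have : Flat (Spec.map b) := Flat.SpecMap_iff.2 (isLocHom_flat hb)
  have : LocallyOfFiniteType (Spec.map a) := (HasRingHomProperty.Spec_iff
    (P := @LocallyOfFiniteType)).2 (RingHom.finiteType_algebraMap.2 inferInstance)
  have heq : (V x).2.fromSpec ≫ f = Spec.map b ≫ (Spec.map a ≫ (U x).2.fromSpec) := by
    rw [← Category.assoc, ← Spec.map_comp, ← hab, IsAffineOpen.SpecMap_appLE_fromSpec]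
  rw [heq]
  have : IsOpenImmersion (Spec.map b) := isOpenImmersion_of_isOpen_range _
    (isOpen_range_of_universallyClosed f (Spec.map a ≫ (U x).2.fromSpec) (V x).2.fromSpec
      (Spec.map b) heq)
  infer_instance

end Groth.Agent.LocImm12
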