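import Groth.Agent.Lib.LocImm12.LocHom
import Groth.Agent.Lib.LocImm12.Proper
import Mathlib.AlgebraicGeometry.SpreadingOut

/-!
# Localizing immersions spread out from a subset with isomorphic stalks
-/

universe u

open CategoryTheory Limits AlgebraicGeometry TopologicalSpace

namespace Groth.Agent.LocImm12

set_option backward.isDefEq.respectTransparency.types false

variable {X Y Z : Scheme.{u}}

theorem isLocalizing_of_isOpenImmersion (f : X ⟶ Y) [IsOpenImmersion f] : LocImm.IsLocalizing f := by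
  intro x
  obtain ⟨V, hV, hx, -⟩ := exists_isAffineOpen_mem_and_subset (x := x) (U := ⊤) trivial
  refine ⟨⟨f ''ᵁ V, hV.image_of_isOpenImmersion f⟩, ⟨V, hV⟩, hx, (f.preimage_image_eq V).ge, ?_⟩
  refine isLocHom_of_bijective ?_
  have : IsIso (f.appLE (f ''ᵁ V) V (f.preimage_image_eq V).ge) := by
    rw [← Scheme.Hom.appIso_hom']; infer_instance
  exact ConcreteCategory.bijective_of_isIso _

theorem isLocalizing_comp {f : X ⟶ Y} {g : Y ⟶ Z} (hf : LocImm.IsLocalizing f)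
    (hg : LocImm.IsLocalizing g) : LocImm.IsLocalizing (f ≫ g) := by
  intro x
  obtain ⟨Ug, Vg, hxg, eg, hlg⟩ := hg (f x)
  obtain ⟨Uf, Vf, hxf, ef, hlf⟩ := hf x
  obtain ⟨a, b, hab, hxa⟩ := exists_basicOpen_le_affine_inter Uf.2 Vg.2 (f x) ⟨ef hxf, hxg⟩
  obtain ⟨ef', hlf'⟩ := isLocHom_appLE_basicOpen f Uf.2 Vf.2 ef hlf a
  refine ⟨Ug, ⟨_, Vf.2.basicOpen (f.appLE _ _ ef a)⟩, ?_, ?_, ?_⟩
  · show x ∈ X.basicOpen (f.appLE Uf.1 Vf.1 ef a)
    rw [Scheme.Hom.appLE, CommRingCat.comp_apply, Scheme.basicOpen_res,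
      ← Scheme.preimage_basicOpen]
    exact ⟨hxf, hxa⟩
  · refine ef'.trans ?_
    rw [Scheme.Hom.comp_preimage]
    exact f.preimage_mono ((hab.trans_le (Y.basicOpen_le b)).trans eg)
  · have e1 : Y.basicOpen a ≤ g ⁻¹ᵁ Ug.1 := (hab.trans_le (Y.basicOpen_le b)).trans eg
    rw [← Scheme.Hom.appLE_comp_appLE f g Ug.1 (Y.basicOpen a) _ e1 ef', CommRingCat.hom_comp]
    refine isLocHom_comp ?_ hlf'
    have : ∀ (O : Y.Opens) (h : O ≤ g ⁻¹ᵁ Ug.1), O = Y.basicOpen b →
        LocImm.IsLocHom (g.appLE Ug.1 O h).hom := by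
      rintro O h rfl
      rw [← g.appLE_map eg (homOfLE (Y.basicOpen_le b)).op, CommRingCat.hom_comp]
      exact isLocHom_comp hlg (isLocHom_res_basicOpen Vg.2 b)
    exact this _ _ hab

theorem isLocImmersion_of_isOpenImmersion (f : X ⟶ Y) [IsOpenImmersion f] :
    LocImm.IsLocImmersion f :=
  ⟨isLocalizing_of_isOpenImmersion f, f.isOpenEmbedding.injective⟩

theorem isLocImmersion_comp {f : X ⟶ Y} {g : Y ⟶ Z} (hf : LocImm.IsLocImmersion f)
    (hg : LocImm.IsLocImmersion g) : LocImm.IsLocImmersion (f ≫ g) :=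
  ⟨isLocalizing_comp hf.1 hg.1, fun _ _ h => hf.2 (hg.2 h)⟩

theorem isLocImmersion_SpecMap {A B : CommRingCat.{u}} {φ : A ⟶ B} (h : LocImm.IsLocHom φ.hom) :
    LocImm.IsLocImmersion (Spec.map φ) := by
  refine ⟨fun x => ⟨⟨⊤, isAffineOpen_top _⟩, ⟨⊤, isAffineOpen_top _⟩, trivial, le_rfl, ?_⟩,
    (isPreimmersion_SpecMap h).isEmbedding.injective⟩
  have e : (Spec.map φ).appLE ⊤ ⊤ le_rfl =
      (Scheme.ΓSpecIso A).hom ≫ φ ≫ (Scheme.ΓSpecIso B).inv := by
    rw [← Scheme.ΓSpecIso_naturality_assoc, Iso.hom_inv_id, Category.comp_id]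
    simp [Scheme.Hom.appLE, Scheme.Hom.appTop]
  rw [e, CommRingCat.hom_comp, CommRingCat.hom_comp]
  exact isLocHom_comp
    (isLocHom_of_bijective (ConcreteCategory.bijective_of_isIso (Scheme.ΓSpecIso A).hom))
    (isLocHom_comp h
      (isLocHom_of_bijective (ConcreteCategory.bijective_of_isIso (Scheme.ΓSpecIso B).inv)))

/-- Lifting a localizing immersion through an open immersion. -/
theorem isLocImmersion_of_comp_openImmersion {f : X ⟶ Y} (g : Y ⟶ Z) [IsOpenImmersion g]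
    [IsPreimmersion (f ≫ g)] (h : LocImm.IsLocImmersion (f ≫ g)) : LocImm.IsLocImmersion f := by
  refine ⟨fun x => ?_, fun a b e => h.2 (show g (f a) = g (f b) from congrArg g e)⟩
  obtain ⟨V, hxV, hVW, hV, hP, hl⟩ := exists_affine_preimage h.1
    (f ≫ g).isEmbedding x g.opensRange ⟨f x, rfl⟩
  have hpre : IsAffineOpen (g ⁻¹ᵁ V) := hV.preimage_of_isOpenImmersion g hVW
  refine ⟨⟨_, hpre⟩, ⟨_, hP⟩, hxV, le_rfl, ?_⟩
  rw [Scheme.Hom.app_eq_appLE] at hl
  have hl' : LocImm.IsLocHom (g.appLE V (g ⁻¹ᵁ V) le_rfl ≫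
      f.appLE (g ⁻¹ᵁ V) ((f ≫ g) ⁻¹ᵁ V) le_rfl).hom := by
    rw [Scheme.Hom.appLE_comp_appLE]; exact hl
  rw [CommRingCat.hom_comp] at hl'
  refine isLocHom_of_comp hl' fun b => ?_
  have : IsIso (g.app V) := g.isIso_app V hVW
  obtain ⟨a, ha⟩ := (ConcreteCategory.bijective_of_isIso (g.app V)).2 b
  exact ⟨a, 1, by simp, by rw [← Scheme.Hom.app_eq_appLE, map_one, mul_one]; exact ha.symm⟩

/-- A morphism locally of finite type which induces an isomorphism of stalks at a point of a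
locally noetherian scheme is an open immersion near the point. -/
theorem exists_open_isOpenImmersion (f : X ⟶ Y) [LocallyOfFiniteType f] [IsLocallyNoetherian X]
    [IsLocallyNoetherian Y] (x : X) [IsIso (f.stalkMap x)] :
    ∃ O : X.Opens, x ∈ O ∧ IsOpenImmersion (O.ι ≫ f) := by
  obtain ⟨U, hyU, σ, hσ, hσf⟩ := spread_out_of_isGermInjective' (X := Y) (Y := X) (S := Y) (𝟙 Y) f
    (x := f x) (Spec.map (inv (f.stalkMap x)) ≫ X.fromSpecStalk x) (by
      rw [Category.assoc, ← Scheme.SpecMap_stalkMap_fromSpecStalk, ← Spec.map_comp_assoc,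
        IsIso.hom_inv_id, Spec.map_id, Category.id_comp, Category.comp_id])
  rw [Category.comp_id] at hσf
  let x' : (f ⁻¹ᵁ U).toScheme := ⟨x, hyU⟩
  have key : Scheme.fromSpecStalk _ x' ≫ (f ∣_ U) ≫ σ =
      Scheme.fromSpecStalk _ x' ≫ (f ⁻¹ᵁ U).ι := by
    have h1 : Scheme.fromSpecStalk _ x' ≫ (f ∣_ U) =
        Spec.map ((f ⁻¹ᵁ U).ι.stalkMap x') ≫ Spec.map (f.stalkMap x) ≫
          U.fromSpecStalkOfMem (f x) hyU := by
      rw [← cancel_mono U.ι]
      simp only [Category.assoc, Scheme.Opens.fromSpecStalkOfMem_ι, morphismRestrict_ι]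
      refine (Scheme.SpecMap_stalkMap_fromSpecStalk_assoc (f := (f ⁻¹ᵁ U).ι) (x := x') f).symm.trans ?_
      exact congrArg _ (Scheme.SpecMap_stalkMap_fromSpecStalk (f := f) (x := x)).symm
    have hinv : Spec.map (f.stalkMap x) ≫ Spec.map (inv (f.stalkMap x)) ≫ X.fromSpecStalk x =
        X.fromSpecStalk x := by
      rw [← Spec.map_comp_assoc, IsIso.inv_hom_id, Spec.map_id, Category.id_comp]
    rw [← Category.assoc, h1, Category.assoc, Category.assoc, ← hσ]
    exact (congrArg (Spec.map _ ≫ ·) hinv).trans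
      (Scheme.SpecMap_stalkMap_fromSpecStalk (f := (f ⁻¹ᵁ U).ι))
  obtain ⟨O', hxO', hO'⟩ := spread_out_unique_of_isGermInjective' (x := x') _ _ key
  let O : X.Opens := (f ⁻¹ᵁ U).ι ''ᵁ O'
  refine ⟨O, ⟨x', hxO', rfl⟩, ?_⟩
  have hOU : O ≤ f ⁻¹ᵁ U := by rintro _ ⟨o, -, rfl⟩; exact o.2
  have hid : X.homOfLE hOU ≫ (f ∣_ U) ≫ σ = O.ι := by
    have hr : Set.range (X.homOfLE hOU) ⊆ Set.range O'.ι := by
      rintro _ ⟨o, rfl⟩
      rw [Scheme.Opens.range_ι]
      obtain ⟨o', ho', he⟩ := o.2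
      have : X.homOfLE hOU o = o' := by
        apply (f ⁻¹ᵁ U).ι.isOpenEmbedding.injective
        rw [← Scheme.Hom.comp_apply, Scheme.homOfLE_ι]
        exact he.symm
      rw [this]; exact ho'
    rw [← IsOpenImmersion.lift_fac O'.ι (X.homOfLE hOU) hr, Category.assoc, hO', ← Category.assoc,
      IsOpenImmersion.lift_fac, Scheme.homOfLE_ι]
  let U' : U.toScheme.Opens := σ ⁻¹ᵁ O
  let s : O.toScheme ⟶ U'.toScheme := IsOpenImmersion.lift U'.ι (X.homOfLE hOU ≫ (f ∣_ U)) (by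
    rintro _ ⟨o, rfl⟩
    rw [Scheme.Opens.range_ι]
    show σ _ ∈ O
    rw [← Scheme.Hom.comp_apply, Category.assoc, hid]
    exact o.2)
  let t : U'.toScheme ⟶ O.toScheme := IsOpenImmersion.lift O.ι (U'.ι ≫ σ) (by
    rintro _ ⟨u, rfl⟩
    rw [Scheme.Opens.range_ι]
    exact u.2)
  have hs : s ≫ U'.ι = X.homOfLE hOU ≫ (f ∣_ U) := IsOpenImmersion.lift_fac ..
  have ht : t ≫ O.ι = U'.ι ≫ σ := IsOpenImmersion.lift_fac ..
  have hst : s ≫ t = 𝟙 _ := by
    rw [← cancel_mono O.ι, Category.assoc, ht, ← Category.assoc, hs, Category.assoc, hid,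
      Category.id_comp]
  have hsU : s ≫ U'.ι ≫ U.ι = O.ι ≫ f := by
    rw [← Category.assoc, hs, Category.assoc, morphismRestrict_ι, ← Category.assoc, Scheme.homOfLE_ι]
  have hts : t ≫ s = 𝟙 _ := by
    rw [← cancel_mono (U'.ι ≫ U.ι), Category.assoc, hsU, ← Category.assoc, ht, Category.assoc, hσf,
      Category.id_comp]
  have : IsIso s := ⟨t, hst, hts⟩
  rw [← hsU]
  infer_instance

/-- A morphism essentially of finite type which induces an isomorphism of stalks at a point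
is a localizing immersion near the point. -/
theorem exists_open_isLocImmersion (f : X ⟶ Y) [EssFT.LocallyEssFiniteType f]
    [IsLocallyNoetherian Y] (x : X) [IsIso (f.stalkMap x)] :
    ∃ O : X.Opens, x ∈ O ∧ LocImm.IsLocImmersion (O.ι ≫ f) := by
  obtain ⟨U, V, hx, e, hφ⟩ := EssFT.LocallyEssFiniteType.exists_appLE_essFiniteType (f := f) x
  obtain ⟨z, rfl⟩ := V.2.range_fromSpec.ge hx
  algebraize [(f.appLE U.1 V.1 e).hom]
  let C := Algebra.EssFiniteType.subalgebra Γ(Y, U) Γ(X, V)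
  let M := Algebra.EssFiniteType.submonoid Γ(Y, U) Γ(X, V)
  have : IsLocalization M Γ(X, V) := inferInstance
  have : IsNoetherianRing Γ(Y, U) := IsLocallyNoetherian.component_noetherian U
  have : IsNoetherianRing C := Algebra.FiniteType.isNoetherianRing Γ(Y, U) C
  let a : Γ(Y, U) ⟶ CommRingCat.of C := CommRingCat.ofHom (algebraMap Γ(Y, U) C)
  let b : CommRingCat.of C ⟶ Γ(X, V) := CommRingCat.ofHom (algebraMap C Γ(X, V))
  have hab : f.appLE U.1 V.1 e = a ≫ b :=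
    CommRingCat.hom_ext (IsScalarTower.algebraMap_eq Γ(Y, U) C Γ(X, V))
  have hb : LocImm.IsLocHom b.hom := isLocHom_algebraMap M
  have : LocallyOfFiniteType (Spec.map a) := (HasRingHomProperty.Spec_iff
    (P := @LocallyOfFiniteType)).2 (RingHom.finiteType_algebraMap.2 inferInstance)
  have : IsPreimmersion (Spec.map b) := isPreimmersion_SpecMap hb
  have : Flat (Spec.map b) := Flat.SpecMap_iff.2 (isLocHom_flat hb)
  let p := Spec.map a ≫ U.2.fromSpec
  have heq : V.2.fromSpec ≫ f = Spec.map b ≫ p := by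
    rw [← Category.assoc, ← Spec.map_comp, ← hab, IsAffineOpen.SpecMap_appLE_fromSpec]
  have : IsIso (p.stalkMap (Spec.map b z)) := by
    have h1 : IsIso ((Spec.map b ≫ p).stalkMap z) := by
      rw [← heq, Scheme.Hom.stalkMap_comp]
      exact IsIso.comp_isIso' ‹_› inferInstance
    rw [Scheme.Hom.stalkMap_comp] at h1
    exact @IsIso.of_isIso_comp_right _ _ _ _ _ _ ((Spec.map b).stalkMap z)
      (isIso_stalkMap (Spec.map b) z) h1
  obtain ⟨O, hzO, hO⟩ := exists_open_isOpenImmersion p (Spec.map b z)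
  let k := Spec.map b
  let O₁ : (Spec Γ(X, V)).Opens := k ⁻¹ᵁ O
  refine ⟨(O₁.ι ≫ V.2.fromSpec).opensRange, ⟨⟨z, hzO⟩, rfl⟩, ?_⟩
  have h2 : LocImm.IsLocImmersion ((O₁.ι ≫ V.2.fromSpec) ≫ f) := by
    rw [Category.assoc, heq, ← Category.assoc, ← morphismRestrict_ι, Category.assoc]
    refine isLocImmersion_comp (f := k ∣_ O) ?_ (isLocImmersion_of_isOpenImmersion _)
    have h3 : LocImm.IsLocImmersion ((k ∣_ O) ≫ O.ι) := by
      rw [morphismRestrict_ι]
      exact isLocImmersion_comp (isLocImmersion_of_isOpenImmersion _) (isLocImmersion_SpecMap hb)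
    have : IsPreimmersion ((k ∣_ O) ≫ O.ι) := by rw [morphismRestrict_ι]; infer_instance
    exact isLocImmersion_of_comp_openImmersion O.ι h3
  rw [← Scheme.Hom.isoOpensRange_inv_comp (O₁.ι ≫ V.2.fromSpec), Category.assoc]
  exact isLocImmersion_comp (isLocImmersion_of_isOpenImmersion _) h2

end Groth.Agent.LocImm12
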