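import Groth.Agent.Lib.LocImm12.Noeth
import Groth.Agent.Lib.LocImm12.Local
import Groth.Agent.Lib.LocImm12.Open
import Groth.Agent.Lib.AdmOpen4.BlowUp
import Groth.Agent.Lib.Nagata4.Basics
import Groth.Agent.Lib.BlowUpExist.Glue
import Groth.Agent.S1694

/-!
# Admissible blow-ups for proper maps which are isomorphisms near a localizing immersion
-/

set_option autoImplicit false
set_option linter.style.haveILetI false
set_option backward.isDefEq.respectTransparency false
universe u

open CategoryTheory CategoryTheory.Limits AlgebraicGeometry TopologicalSpace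

namespace Groth.Agent.LocImm12

variable {U P X : Scheme.{u}}

/-- A schematically dominant closed immersion is an isomorphism. -/
theorem isIso_of_dominant_closed {A B : Scheme.{u}} (σ : A ⟶ B) [IsClosedImmersion σ]
    [IsSchemeTheoreticallyDominant σ] : IsIso σ := by
  rw [IsClosedImmersion.isIso_iff_ker_eq_bot]
  exact σ.ker_eq_bot

/-- A proper map is an isomorphism near every point of a localizing immersion which lifts to it
with schematically dense image. -/
theorem exists_open_isIso_at [IsNoetherian U] [IsNoetherian X] (p : P ⟶ X) [IsProper p]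
    (t : U ⟶ P) [IsSchemeTheoreticallyDominant t] [QuasiCompact t] (j : U ⟶ X)
    (hj : LocImm.IsLocImmersion j) (ht : t ≫ p = j) (z : U) :
    ∃ V : X.Opens, j z ∈ V ∧ IsIso (p ∣_ V) := by
  haveI : IsNoetherian P := isNoetherian_of_finiteType p
  haveI := isPreimmersion_of_isLocImmersion hj
  haveI := flat_of_isLocalizing hj.1
  haveI := surjectiveOnStalks_of_isLocalizing hj.1
  haveI : IsIso (j.stalkMap z) := isIso_stalkMap j z
  let q := X.fromSpecStalk (j z)
  haveI : Flat q := flat_of_isLocalizing (isLocImmersion_fromSpecStalk (j z)).1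
  haveI : SurjectiveOnStalks q := surjectiveOnStalks_of_isLocalizing (isLocImmersion_fromSpecStalk (j z)).1
  let s : Spec (X.presheaf.stalk (j z)) ⟶ U := Spec.map (inv (j.stalkMap z)) ≫ U.fromSpecStalk z
  have hs : s ≫ j = q := by
    simp only [s, Category.assoc]
    rw [← Scheme.SpecMap_stalkMap_fromSpecStalk, ← Spec.map_comp_assoc]
    simp [q]
  have hleft : IsPullback s (𝟙 _) j q := by
    refine ⟨⟨by rw [hs, Category.id_comp]⟩, ⟨PullbackCone.IsLimit.mk _ (fun c => c.snd) (fun c => ?_) (fun c => ?_)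
      (fun c m _ hm => ?_)⟩⟩
    · rw [← cancel_mono j, Category.assoc, hs]
      exact c.condition.symm
    · exact Category.comp_id _
    · simpa using hm
  let σ : Spec (X.presheaf.stalk (j z)) ⟶ pullback p q := pullback.lift (s ≫ t) (𝟙 _)
    (by rw [Category.assoc, ht, hs, Category.id_comp])
  have h₁ : σ ≫ pullback.snd p q = 𝟙 _ := pullback.lift_snd _ _ _
  have h₂ : σ ≫ pullback.fst p q = s ≫ t := pullback.lift_fst _ _ _
  haveI : IsClosedImmersion (σ ≫ pullback.snd p q) := h₁ ▸ inferInstance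
  haveI : IsClosedImmersion σ := IsClosedImmersion.of_comp σ (pullback.snd p q)
  have hsq : IsPullback σ s (pullback.fst p q) t := by
    refine IsPullback.of_right (t := IsPullback.of_hasPullback p q |>.flip) ?_ h₂
    rw [h₁, ht]
    exact hleft.flip
  haveI : Flat (pullback.fst p q) := MorphismProperty.pullback_fst p q ‹Flat q›
  haveI : IsSchemeTheoreticallyDominant σ := IsSchemeTheoreticallyDominant.of_isPullback hsq.flip
  haveI : IsIso σ := isIso_of_dominant_closed σ
  have hinv : pullback.snd p q = inv σ := (IsIso.eq_inv_of_hom_inv_id h₁)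
  haveI : IsIso (pullback.snd p q) := hinv ▸ inferInstance
  let w₀ : Spec (X.presheaf.stalk (j z)) := IsLocalRing.closedPoint _
  have hqw : q w₀ = j z := Scheme.fromSpecStalk_closedPoint
  let y' := σ w₀
  let y : P := pullback.fst p q y'
  have hpy : p y = j z := by
    show p (pullback.fst p q y') = j z
    rw [← Scheme.Hom.comp_apply, pullback.condition, Scheme.Hom.comp_apply]
    show q ((σ ≫ pullback.snd p q) w₀) = j z
    rw [h₁]; exact hqw
  have huniq : ∀ y₁ : P, p y₁ = j z → y₁ = y := fun y₁ hy₁ => by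
    obtain ⟨w, hw1, hw2⟩ := Scheme.Pullback.exists_preimage_pullback y₁ w₀ (hy₁.trans hqw.symm)
    have : w = y' := (pullback.snd p q).homeomorph.injective (by
      show pullback.snd p q w = pullback.snd p q y'
      rw [hw2]
      show w₀ = (σ ≫ pullback.snd p q) w₀
      rw [h₁]; rfl)
    rw [← hw1, this]
  haveI : IsIso (p.stalkMap y) := by
    have hi : IsIso ((pullback.fst p q ≫ p).stalkMap y') := by
      have heq : pullback.fst p q ≫ p = pullback.snd p q ≫ q := pullback.condition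
      haveI : Flat (pullback.fst p q ≫ p) := heq ▸ inferInstance
      haveI : SurjectiveOnStalks (pullback.fst p q ≫ p) := heq ▸ inferInstance
      exact isIso_stalkMap _ _
    rw [Scheme.Hom.stalkMap_comp] at hi
    haveI : SurjectiveOnStalks (pullback.fst p q) := MorphismProperty.pullback_fst p q ‹SurjectiveOnStalks q›
    haveI := isIso_stalkMap (pullback.fst p q) y'
    exact IsIso.of_isIso_comp_right _ ((pullback.fst p q).stalkMap y')
  obtain ⟨O, hyO, hO⟩ := exists_open_isOpenImmersion p y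
  haveI := hO
  let V : X.Opens := (O.ι ≫ p).opensRange ⊓
    ⟨(p '' (O : Set P)ᶜ)ᶜ, (p.isClosedMap _ O.2.isClosed_compl).isOpen_compl⟩
  have hle : p ⁻¹ᵁ V ≤ O := fun w hw => by
    by_contra hwO
    exact hw.2 ⟨w, hwO, rfl⟩
  refine ⟨V, ⟨⟨⟨y, hyO⟩, hpy⟩, ?_⟩, ?_⟩
  · rintro ⟨w, hwO, hw⟩
    exact hwO (huniq w hw ▸ hyO)
  · have e : (p ∣_ V) ≫ V.ι = P.homOfLE hle ≫ O.ι ≫ p := by
      rw [morphismRestrict_ι, Scheme.homOfLE_ι_assoc]
    haveI : IsOpenImmersion ((p ∣_ V) ≫ V.ι) := e ▸ inferInstance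
    haveI : IsOpenImmersion (p ∣_ V) := IsOpenImmersion.of_comp _ V.ι
    haveI : Epi (p ∣_ V).base := by
      rw [TopCat.epi_iff_surjective]
      rintro ⟨v, hv⟩
      obtain ⟨⟨w, hwO⟩, hw⟩ := hv.1
      refine ⟨⟨w, show p w ∈ V from (show p w = v from hw) ▸ hv⟩, V.ι.isOpenEmbedding.injective ?_⟩
      rw [← Scheme.Hom.comp_apply, morphismRestrict_ι]
      exact hw
    exact IsOpenImmersion.isIso _

/-- A proper map is an isomorphism over an open containing a localizing immersion which lifts to it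
with schematically dense image. -/
theorem exists_open_isIso [IsNoetherian U] [IsNoetherian X] (p : P ⟶ X) [IsProper p]
    (t : U ⟶ P) [IsSchemeTheoreticallyDominant t] [QuasiCompact t] (j : U ⟶ X)
    (hj : LocImm.IsLocImmersion j) (ht : t ≫ p = j) :
    ∃ V : X.Opens, (∀ z, j z ∈ V) ∧ IsIso (p ∣_ V) := by
  choose V hzV hV using exists_open_isIso_at p t j hj ht
  refine ⟨⨆ z, V z, fun z => Opens.mem_iSup.2 ⟨z, hzV z⟩, ?_⟩
  let W : X.Opens := ⨆ z, V z
  refine IsZariskiLocalAtTarget.of_iSup_eq_top (P := MorphismProperty.isomorphisms Scheme)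
    (fun z => W.ι ⁻¹ᵁ V z) (top_le_iff.1 fun x _ => ?_) fun z => ?_
  · obtain ⟨z, hz⟩ := Opens.mem_iSup.1 x.2
    exact Opens.mem_iSup.2 ⟨z, hz⟩
  · refine ((MorphismProperty.isomorphisms Scheme).arrow_mk_iso_iff
      (morphismRestrictRestrict p W (W.ι ⁻¹ᵁ V z) ≪≫ eqToIso ?_)).2 (hV z)
    rw [Scheme.Hom.image_preimage_eq_opensRange_inf, Scheme.Opens.opensRange_ι,
      inf_eq_right.2 (le_iSup V z)]

/-- A proper map which is an isomorphism over `V` becomes, after a `V`-admissible blow-up, a blow-up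
of the source. -/
theorem exists_blowUp_lift [IsNoetherian X] (p : P ⟶ X) [IsProper p] (V : X.Opens) [IsIso (p ∣_ V)] :
    ∃ (J : X.IdealSheafData) (X₁ : Scheme.{u}) (a : X₁ ⟶ P), BlowUp.IsAdmissibleFor V J ∧
      BlowUp.IsBlowUp (a ≫ p) J ∧ BlowUp.IsBlowUp a (J.comap p) := by
  obtain ⟨J, hJ, hsupp, hstr⟩ := AdmOpen4.exists_center p V (NoetherianSpace.isCompact _)
  let c := BlowUpExist.ChartIdx.blowUpHom J
  have hc : BlowUp.IsBlowUp c J := BlowUpExist.ChartIdx.isBlowUp_blowUpHom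
  obtain ⟨T, a, s, hS⟩ := AdmOpen4.exists_isStrict_of_eff p c hsupp hc.1
  haveI := hstr c a s hS hc.1
  haveI := AdmOpen4.isIso_of_proper hS (AdmOpen4.dense_preimage hsupp hc.1)
  exact ⟨J, T, a, hJ, hS.w ▸ AdmOpen4.isBlowUp_iso_comp hc s,
    AdmOpen4.isBlowUp_of_isStrict hS hc hsupp⟩

/-- Finitely many proper maps out of `P` which are isomorphisms near `O` become, after one blow-up
of `P` away from `O`, blow-ups of their targets away from the image of `O`. -/
theorem exists_common_blowUp [IsNoetherian P] {n : ℕ} {X : Fin n → Scheme.{u}} [∀ i, IsNoetherian (X i)]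
    (π : ∀ i, P ⟶ X i) [∀ i, IsProper (π i)] (V : ∀ i, (X i).Opens) [∀ i, IsIso (π i ∣_ V i)]
    (O : Set P) (hO : ∀ i, ∀ o ∈ O, π i o ∈ V i) :
    ∃ (M : P.IdealSheafData) (P' : Scheme.{u}) (β : P' ⟶ P) (I : ∀ i, (X i).IdealSheafData),
      BlowUp.IsBlowUp β M ∧ BlowUp.IsFiniteTypeIdeal M ∧ Disjoint (M.support : Set P) O ∧
      ∀ i, BlowUp.IsBlowUp (β ≫ π i) (I i) ∧ Disjoint ((I i).support : Set (X i)) (π i '' O) := by
  classical
  choose J X₁ a hJ hc ha using fun i => exists_blowUp_lift (π i) (V i)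
  let M : P.IdealSheafData := ∏ i, (J i).comap (π i)
  have hMO : ∀ o ∈ O, o ∉ (M.support : Set P) := by
    intro o ho
    suffices ∀ s : Finset (Fin n), o ∉ ((∏ i ∈ s, (J i).comap (π i)).support : Set P) from this _
    intro s
    induction s using Finset.induction_on with
    | empty =>
      rw [Finset.prod_empty]
      simp [Scheme.IdealSheafData.one_eq_top, Scheme.IdealSheafData.support_top]
    | insert i s his ih =>
      rw [Finset.prod_insert his, Scheme.IdealSheafData.support_mul, Closeds.coe_sup,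
        Scheme.IdealSheafData.support_comap]
      rintro (h | h)
      · exact Set.disjoint_left.1 (hJ i).2 h (hO i o ho)
      · exact ih h
  let β := BlowUpExist.ChartIdx.blowUpHom M
  have hβ : BlowUp.IsBlowUp β M := BlowUpExist.ChartIdx.isBlowUp_blowUpHom
  have hMft : BlowUp.IsFiniteTypeIdeal M := Nagata4.isFiniteTypeIdeal_of_noetherian M
  suffices ∀ i, ∃ I : (X i).IdealSheafData, BlowUp.IsBlowUp (β ≫ π i) I ∧
      Disjoint (I.support : Set (X i)) (π i '' O) by
    choose I hI using this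
    exact ⟨M, _, β, I, hβ, hMft, Set.disjoint_left.2 fun o h ho => hMO o ho h, hI⟩
  intro i
  have hfac : ∀ {W : Scheme.{u}} (g : W ⟶ P), BlowUp.IsEffCartierIdeal (M.comap g) →
      BlowUp.IsEffCartierIdeal (((J i).comap (π i)).comap g) := by
    intro W g hg
    have : M = (J i).comap (π i) * ∏ k ∈ Finset.univ.erase i, (J k).comap (π k) :=
      (Finset.mul_prod_erase _ _ (Finset.mem_univ i)).symm
    rw [this, EffCartier.comap_mul] at hg
    exact EffCartier.isEffCartierIdeal_of_mul_left hg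
  obtain ⟨h, hh, -⟩ := (ha i).2 _ β (hfac β hβ.1)
  have hbl : BlowUp.IsBlowUp h (M.comap (a i)) := by
    refine ⟨by rw [← Scheme.IdealSheafData.comap_comp, hh]; exact hβ.1, fun W g hg => ?_⟩
    rw [← Scheme.IdealSheafData.comap_comp] at hg
    obtain ⟨k, hk, hk'⟩ := hβ.2 W (g ≫ a i) hg
    obtain ⟨l, -, hl⟩ := (ha i).2 W (g ≫ a i) (hfac _ hg)
    refine ⟨k, ?_, fun k' hk'' => hk' k' ?_⟩
    · show k ≫ h = g
      rw [hl (k ≫ h) (by show (k ≫ h) ≫ a i = g ≫ a i; rw [Category.assoc, hh, hk]),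
        hl g rfl]
    · show k' ≫ β = g ≫ a i
      rw [← hh, ← Category.assoc, hk'']
  haveI : IsNoetherian (X₁ i) := by
    haveI := BlowUpExist.isProper (hJ i).1 (hc i)
    exact isNoetherian_of_finiteType (a i ≫ π i)
  obtain ⟨K, -, hKs, hK⟩ := Groth.Agent.S1694.result (X i) (J i) (hJ i).1 (a i ≫ π i) (hc i)
    (M.comap (a i)) (Nagata4.isFiniteTypeIdeal_of_noetherian _) h hbl
  refine ⟨K, by rw [← hh, Category.assoc]; exact hK, ?_⟩
  rw [hKs, Scheme.IdealSheafData.support_comap]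
  rw [Set.disjoint_left]
  rintro x hx ⟨o, ho, rfl⟩
  rcases hx with hx | ⟨x₁, hx₁, hx₁o⟩
  · exact Set.disjoint_left.1 (hJ i).2 hx (hO i o ho)
  · have heq : a i x₁ = o := AdmOpen4.injective_on_preimage (π i) (V i)
      ((show π i (a i x₁) = π i o from hx₁o) ▸ hO i o ho) (hO i o ho) hx₁o
    exact hMO o ho (heq ▸ hx₁)

/-- The package for a finite family of localizing immersions through proper maps. -/
theorem exists_family [IsNoetherian U] [IsNoetherian P] {n : ℕ} {X : Fin n → Scheme.{u}} [∀ i, IsNoetherian (X i)]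
    (t : U ⟶ P) [IsSchemeTheoreticallyDominant t] [QuasiCompact t]
    (π : ∀ i, P ⟶ X i) [∀ i, IsProper (π i)] (j : ∀ i, U ⟶ X i) (hj : ∀ i, LocImm.IsLocImmersion (j i))
    (ht : ∀ i, t ≫ π i = j i) :
    ∃ (P' : Scheme.{u}) (β : P' ⟶ P) (t' : U ⟶ P') (I : ∀ i, (X i).IdealSheafData),
      IsNoetherian P' ∧ IsProper β ∧ t' ≫ β = t ∧ DenseRange t' ∧
      (∃ M : P.IdealSheafData, BlowUp.IsBlowUp β M ∧ BlowUp.IsFiniteTypeIdeal M) ∧
      ∀ i, BlowUp.IsBlowUp (β ≫ π i) (I i) ∧ Disjoint ((I i).support : Set (X i)) (Set.range (j i)) := by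
  choose V hV hi using fun i => exists_open_isIso (π i) t (j i) (hj i) (ht i)
  obtain ⟨M, P', β, I, hβ, hM, hMO, hI⟩ := exists_common_blowUp π V (Set.range t) (by
    rintro i _ ⟨z, rfl⟩
    rw [← Scheme.Hom.comp_apply, ht]; exact hV i z)
  have htM : M.comap t = ⊤ :=
    EffCartier.comap_eq_top _ _ fun z h => Set.disjoint_left.1 hMO h ⟨z, rfl⟩
  obtain ⟨t', ht', -⟩ := hβ.2 U t (htM ▸ EffCartier.isEffCartierIdeal_top)
  haveI : IsProper β := BlowUpExist.isProper hM hβ
  refine ⟨P', β, t', I, isNoetherian_of_finiteType β, inferInstance, ht', ?_, ⟨M, hβ, hM⟩, fun i => ⟨(hI i).1, ?_⟩⟩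
  · haveI := EffCartier.isIso_blowUp_restrict hβ
    rw [DenseRange, dense_iff_inter_open]
    intro W hW hWne
    obtain ⟨w, hw⟩ := hWne
    obtain ⟨y, hy, hyw⟩ := EffCartier.exists_specializes_cmpl hβ.1 w
    have hyM : β y ∈ EffCartier.cmpl M := by
      rw [← BlowUp26.preimage_cmpl_eq] at hy
      exact hy
    have hyW : y ∈ W := hyw.mem_open hW hw
    let q := (β ⁻¹ᵁ EffCartier.cmpl M).ι ≫ β
    haveI : IsOpenImmersion q := by
      show IsOpenImmersion ((β ⁻¹ᵁ EffCartier.cmpl M).ι ≫ β)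
      rw [← morphismRestrict_ι]; infer_instance
    obtain ⟨z, ⟨b, hb⟩, hbW, hz⟩ :=
      (Nagata4.denseRange_of_dominant t).exists_mem_open
        (q.isOpenEmbedding.isOpenMap _ (hW.preimage (β ⁻¹ᵁ EffCartier.cmpl M).ι.continuous))
        ⟨_, ⟨y, hyM⟩, hyW, rfl⟩
    refine ⟨t' z, ?_, ⟨z, rfl⟩⟩
    have hbz : b = t' z := AdmOpen4.injective_on_preimage β (EffCartier.cmpl M) hb
      (by rw [← Scheme.Hom.comp_apply, ht']; exact fun h => Set.disjoint_left.1 hMO h ⟨z, rfl⟩)
      (by rw [← Scheme.Hom.comp_apply, ht']; exact hz)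
    exact hbz ▸ hbW
  · refine (hI i).2.mono_right ?_
    rintro _ ⟨z, rfl⟩
    exact ⟨t z, ⟨z, rfl⟩, by rw [← Scheme.Hom.comp_apply, ht]⟩

end Groth.Agent.LocImm12
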