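import Groth.Agent.Lib.LocImm12.Factor

/-!
# Separated morphisms essentially of finite type factor through localizing immersions
-/

universe u

open CategoryTheory Limits AlgebraicGeometry TopologicalSpace

namespace Groth.Agent.LocImm12

set_option backward.isDefEq.respectTransparency.types false

/-- A morphism factors as a localizing immersion followed by a separated morphism of finite type. -/
def HasFactor {X S : Scheme.{u}} (f : X ⟶ S) : Prop :=
  ∃ (Y : Scheme.{u}) (k : X ⟶ Y) (p : Y ⟶ S), IsNoetherian Y ∧ LocImm.IsLocImmersion k ∧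
    IsSeparated p ∧ LocallyOfFiniteType p ∧ QuasiCompact p ∧ k ≫ p = f

theorem HasFactor.of_isIso {X X' S : Scheme.{u}} {f : X ⟶ S} (h : HasFactor f) (e : X' ⟶ X)
    [IsOpenImmersion e] : HasFactor (e ≫ f) := by
  obtain ⟨Y, k, p, hY, hk, h1, h2, h3, rfl⟩ := h
  exact ⟨Y, e ≫ k, p, hY, isLocImmersion_comp (isLocImmersion_of_isOpenImmersion e) hk, h1, h2, h3,
    Category.assoc _ _ _⟩

theorem exists_factor {X S : Scheme.{u}} [IsNoetherian X] [IsNoetherian S] (f : X ⟶ S)
    [IsSeparated f] [EssFT.LocallyEssFiniteType f] : HasFactor f := by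
  classical
  have h := fun x => EssFT.LocallyEssFiniteType.exists_appLE_essFiniteType (f := f) x
  choose U V hx e hφ using h
  have hloc : ∀ x, HasFactor ((V x).1.ι ≫ f) := by
    intro x
    have hφx := hφ x
    algebraize [(f.appLE (U x).1 (V x).1 (e x)).hom]
    let C := Algebra.EssFiniteType.subalgebra Γ(S, U x) Γ(X, V x)
    let M := Algebra.EssFiniteType.submonoid Γ(S, U x) Γ(X, V x)
    have : IsLocalization M Γ(X, V x) := inferInstance
    have : IsNoetherianRing Γ(S, U x) := IsLocallyNoetherian.component_noetherian (U x)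
    have : IsNoetherianRing C := Algebra.FiniteType.isNoetherianRing Γ(S, U x) C
    let a : Γ(S, U x) ⟶ CommRingCat.of C := CommRingCat.ofHom (algebraMap Γ(S, U x) C)
    let b : CommRingCat.of C ⟶ Γ(X, V x) := CommRingCat.ofHom (algebraMap C Γ(X, V x))
    have hab : f.appLE (U x).1 (V x).1 (e x) = a ≫ b :=
      CommRingCat.hom_ext (IsScalarTower.algebraMap_eq Γ(S, U x) C Γ(X, V x))
    have : LocallyOfFiniteType (Spec.map a) := (HasRingHomProperty.Spec_iff
      (P := @LocallyOfFiniteType)).2 (RingHom.finiteType_algebraMap.2 inferInstance)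
    have : IsAffine (V x).1 := (V x).2
    refine ⟨_, (V x).2.isoSpec.hom ≫ Spec.map b, Spec.map a ≫ (U x).2.fromSpec, inferInstance,
      isLocImmersion_comp (isLocImmersion_of_isOpenImmersion _)
        (isLocImmersion_SpecMap (isLocHom_algebraMap M)),
      inferInstance, inferInstance, inferInstance, ?_⟩
    rw [Category.assoc, ← Category.assoc (Spec.map b), ← Spec.map_comp, ← hab,
      IsAffineOpen.SpecMap_appLE_fromSpec f (U x).2 (V x).2 (e x), ← Category.assoc]
    congr 1
    rw [← (V x).2.isoSpec_inv_ι, Iso.hom_inv_id_assoc]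
  have key : ∀ t : Finset X, HasFactor ((t.sup fun x => (V x).1).ι ≫ f) := by
    intro t
    induction t using Finset.induction_on with
    | empty =>
      let O : X.Opens := (∅ : Finset X).sup fun x => (V x).1
      have hbot : O = ⊥ := Finset.sup_empty
      have hO : IsEmpty O.toScheme := ⟨fun o => by
        have h : o.1 ∈ (⊥ : X.Opens) := hbot ▸ o.2
        exact h⟩
      have : IsNoetherian O.toScheme := isNoetherian_of_isOpenImmersion O.ι
      exact ⟨O.toScheme, 𝟙 _, O.ι ≫ f, inferInstance, isLocImmersion_of_isOpenImmersion _,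
        inferInstance, inferInstance, inferInstance, Category.id_comp _⟩
    | @insert a s _ ih =>
      rw [Finset.sup_insert]
      let O : X.Opens := (V a).1 ⊔ s.sup fun x => (V x).1
      show HasFactor (O.ι ≫ f)
      have : IsNoetherian O.toScheme := isNoetherian_of_isOpenImmersion O.ι
      have aux : ∀ W : X.Opens, W ≤ O → HasFactor (W.ι ≫ f) →
          HasFactor ((O.ι ⁻¹ᵁ W).ι ≫ O.ι ≫ f) := by
        intro W _ hW
        have := hW.of_isIso (O.ι ∣_ W)
        rwa [← Category.assoc, morphismRestrict_ι, Category.assoc] at this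
      obtain ⟨Y₁, k₁, p₁, _, hk₁, _, _, _, h₁⟩ := aux (V a).1 le_sup_left (hloc a)
      obtain ⟨Y₂, k₂, p₂, _, hk₂, _, _, _, h₂⟩ := aux _ le_sup_right ih
      exact exists_factor_of_two (O.ι ≫ f) _ _ (eq_top_iff.2 fun o _ => o.2) Y₁ Y₂ k₁ k₂ p₁ p₂
        hk₁ hk₂ h₁ h₂
  obtain ⟨t, ht⟩ := CompactSpace.elim_nhds_subcover (fun x => ((V x).1 : Set X))
    fun x => (V x).1.isOpen.mem_nhds (hx x)
  have htop : (t.sup fun x => (V x).1) = ⊤ := eq_top_iff.2 fun y _ => by
    obtain ⟨x, hxt, hy⟩ := Set.mem_iUnion₂.1 (ht.ge (Set.mem_univ y))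
    exact Finset.le_sup (f := fun x => (V x).1) hxt hy
  have := (key t).of_isIso (X.isoOfEq htop ≪≫ X.topIso).inv
  rwa [← Category.assoc, show (X.isoOfEq htop ≪≫ X.topIso).inv ≫
    (t.sup fun x => (V x).1).ι = 𝟙 X by simp, Category.id_comp] at this

end Groth.Agent.LocImm12
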