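import Groth.Agent.Lib.LocImm12.Adm
import Groth.Agent.Lib.AdmBlowUp4.Product
import Groth.Agent.S18202
import Groth.Agent.S18198

/-!
# Admissible blow-ups for localizing immersions: the applications
-/

set_option autoImplicit false
set_option backward.isDefEq.respectTransparency false
set_option linter.style.haveILetI false
universe u

open CategoryTheory CategoryTheory.Limits AlgebraicGeometry TopologicalSpace

namespace Groth.Agent.LocImm12

variable {U A X Y Z S : Scheme.{u}}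

/-- The scheme-theoretic image in a Noetherian scheme. -/
theorem exists_image [IsNoetherian U] [IsNoetherian A] (g : U ⟶ A) :
    ∃ (P : Scheme.{u}) (t : U ⟶ P) (ι : P ⟶ A), IsNoetherian P ∧ IsClosedImmersion ι ∧
      IsSchemeTheoreticallyDominant t ∧ QuasiCompact t ∧ t ≫ ι = g := by
  haveI := isNoetherian_of_finiteType g.imageι
  exact ⟨g.image, g.toImage, g.imageι, inferInstance, inferInstance, EffCartier.dominant_toImage g,
    inferInstance, g.toImage_imageι⟩

/-- One target. -/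
theorem exists_one [IsNoetherian U] [IsNoetherian X] [IsNoetherian A] (g : U ⟶ A) (π : A ⟶ X) [IsProper π]
    (j : U ⟶ X) (hj : LocImm.IsLocImmersion j) (h : g ≫ π = j) :
    ∃ (P' : Scheme.{u}) (φ : P' ⟶ A) (e : U ⟶ P') (I : X.IdealSheafData), IsNoetherian P' ∧
      e ≫ φ = g ∧ BlowUp.IsBlowUp (φ ≫ π) I ∧ Disjoint (I.support : Set X) (Set.range j) := by
  obtain ⟨P, t, ι, hP, hι, ht, htq, htι⟩ := exists_image g
  obtain ⟨P', β, t', I, hP', -, ht', -, -, hI⟩ := exists_family (n := 1) (X := fun _ => X) t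
    (fun _ => ι ≫ π) (fun _ => j) (fun _ => hj) (fun _ => by rw [← Category.assoc, htι, h])
  exact ⟨P', β ≫ ι, t', I 0, hP', by rw [← Category.assoc, ht', htι],
    by rw [Category.assoc]; exact (hI 0).1, (hI 0).2⟩

/-- Two targets in a chain. -/
theorem exists_two [IsNoetherian U] [IsNoetherian Y] [IsNoetherian Z] (g : U ⟶ Y) (π : Y ⟶ Z) [IsProper π]
    (hg : LocImm.IsLocImmersion g) (hgπ : LocImm.IsLocImmersion (g ≫ π)) :
    ∃ (P' : Scheme.{u}) (φ : P' ⟶ Y) (e : U ⟶ P') (I : Y.IdealSheafData) (J : Z.IdealSheafData),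
      IsNoetherian P' ∧ e ≫ φ = g ∧ BlowUp.IsBlowUp φ I ∧ Disjoint (I.support : Set Y) (Set.range g) ∧
      BlowUp.IsBlowUp (φ ≫ π) J ∧ Disjoint (J.support : Set Z) (Set.range (g ≫ π)) := by
  obtain ⟨P, t, ι, hP, hι, ht, htq, htι⟩ := exists_image g
  haveI : ∀ i, IsNoetherian ((![Y, Z] : Fin 2 → Scheme.{u}) i) := fun i => by fin_cases i <;> assumption
  let ρ : ∀ i, P ⟶ (![Y, Z] : Fin 2 → Scheme.{u}) i := Fin.cons ι (Fin.cons (ι ≫ π) finZeroElim)
  haveI : ∀ i, IsProper (ρ i) := fun i => by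
    fin_cases i
    · show IsProper ι
      infer_instance
    · show IsProper (ι ≫ π)
      infer_instance
  obtain ⟨P', β, t', I, hP', -, ht', -, -, hI⟩ := exists_family (n := 2) t ρ (fun i => t ≫ ρ i) (fun i => by
    fin_cases i
    · show LocImm.IsLocImmersion (t ≫ ι)
      rw [htι]; exact hg
    · show LocImm.IsLocImmersion (t ≫ ι ≫ π)
      rw [← Category.assoc, htι]; exact hgπ) (fun i => rfl)
  refine ⟨P', β ≫ ι, t', I 0, I 1, hP', by rw [← Category.assoc, ht', htι], (hI 0).1, ?_, ?_, ?_⟩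
  · have h := (hI 0).2
    change Disjoint _ (Set.range (t ≫ ι)) at h
    rwa [htι] at h
  · rw [Category.assoc]; exact (hI 1).1
  · have h := (hI 1).2
    change Disjoint _ (Set.range (t ≫ ι ≫ π)) at h
    rwa [← Category.assoc, htι] at h

/-- Two targets, jointly dominated. -/
theorem exists_pair [IsNoetherian U] [IsNoetherian Y] [IsNoetherian Z] [IsNoetherian A] (g : U ⟶ A)
    (π₁ : A ⟶ Y) (π₂ : A ⟶ Z) [IsProper π₁] [IsProper π₂] (j₁ : U ⟶ Y) (j₂ : U ⟶ Z)
    (h₁ : LocImm.IsLocImmersion j₁) (h₂ : LocImm.IsLocImmersion j₂) (e₁ : g ≫ π₁ = j₁) (e₂ : g ≫ π₂ = j₂) :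
    ∃ (P' : Scheme.{u}) (φ : P' ⟶ A) (I : Y.IdealSheafData) (J : Z.IdealSheafData),
      IsNoetherian P' ∧ BlowUp.IsBlowUp (φ ≫ π₁) I ∧ Disjoint (I.support : Set Y) (Set.range j₁) ∧
      BlowUp.IsBlowUp (φ ≫ π₂) J ∧ Disjoint (J.support : Set Z) (Set.range j₂) := by
  obtain ⟨P, t, ι, hP, hι, ht, htq, htι⟩ := exists_image g
  haveI : ∀ i, IsNoetherian ((![Y, Z] : Fin 2 → Scheme.{u}) i) := fun i => by fin_cases i <;> assumption
  let ρ : ∀ i, P ⟶ (![Y, Z] : Fin 2 → Scheme.{u}) i := Fin.cons (ι ≫ π₁) (Fin.cons (ι ≫ π₂) finZeroElim)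
  haveI : ∀ i, IsProper (ρ i) := fun i => by
    fin_cases i
    · show IsProper (ι ≫ π₁)
      infer_instance
    · show IsProper (ι ≫ π₂)
      infer_instance
  obtain ⟨P', β, t', I, hP', -, -, -, -, hI⟩ := exists_family (n := 2) t ρ (fun i => t ≫ ρ i) (fun i => by
    fin_cases i
    · show LocImm.IsLocImmersion (t ≫ ι ≫ π₁)
      rw [reassoc_of% htι, e₁]; exact h₁
    · show LocImm.IsLocImmersion (t ≫ ι ≫ π₂)
      rw [reassoc_of% htι, e₂]; exact h₂) (fun i => rfl)
  refine ⟨P', β ≫ ι, I 0, I 1, hP', ?_, ?_, ?_, ?_⟩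
  · rw [Category.assoc]; exact (hI 0).1
  · have h := (hI 0).2
    change Disjoint _ (Set.range (t ≫ ι ≫ π₁)) at h
    rwa [reassoc_of% htι, e₁] at h
  · rw [Category.assoc]; exact (hI 1).1
  · have h := (hI 1).2
    change Disjoint _ (Set.range (t ≫ ι ≫ π₂)) at h
    rwa [reassoc_of% htι, e₂] at h

/-- Base change of a blow-up along a compactification. -/
theorem blowUp_pullback [IsNoetherian U] [IsNoetherian Y] [IsNoetherian A] (k : U ⟶ Y) (hk : LocImm.IsLocImmersion k)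
    {φ : A ⟶ Y} {I : Y.IdealSheafData} (hφ : BlowUp.IsBlowUp φ I) :
    BlowUp.IsBlowUp (pullback.fst k φ) (I.comap k) ∧ LocImm.IsLocImmersion (pullback.snd k φ) :=
  haveI := flat_of_isLocalizing hk.1
  ⟨BlowUp26.isBlowUp_flat_baseChange k hφ, Groth.Agent.S18202.result k φ hk⟩

end Groth.Agent.LocImm12
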